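import Mathlib.AlgebraicGeometry.Morphisms.FlatRank
import Mathlib.AlgebraicGeometry.Morphisms.ClosedImmersion
import Groth.Agent.AssLib.FlatField

/-! Multiplicativity of the rank of finite flat morphisms. -/

open CategoryTheory Limits AlgebraicGeometry TensorProduct

universe u

namespace Groth.Agent.AbSchX.FinRank

theorem finrank_alg {k B C : Type u} [Field k] [CommRing B] [CommRing C] [Algebra k B] [Algebra k C]
    [Algebra B C] [IsScalarTower k B C] [Module.Finite k B] [Module.Finite B C] [Module.Flat B C] (n : ℕ)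
    (h : ∀ p : PrimeSpectrum B, Module.rankAtStalk C p = n) :
    Module.finrank k C = n * Module.finrank k B := by
  rcases subsingleton_or_nontrivial B with hB | hB
  · haveI : Subsingleton C := Module.subsingleton B C
    simp [Module.finrank_zero_of_subsingleton]
  haveI : IsArtinianRing B := IsArtinianRing.of_finite k B
  obtain ⟨b⟩ : Nonempty (Module.Basis (Fin n) B C) := by
    refine Module.nonempty_basis_of_flat_of_finrank_eq (R := B) C n fun P => ?_
    haveI := P.2
    letI := Ideal.Quotient.field P.1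
    have h1 := Module.rankAtStalk_baseChange (R := B) (M := C) (S := B ⧸ P.1) ⟨⊥, Ideal.isPrime_bot⟩
    rw [h, Module.rankAtStalk_eq_finrank_of_free] at h1
    exact h1
  haveI := Module.Free.of_basis b
  rw [← Module.finrank_mul_finrank k B C, Module.finrank_eq_card_basis b, Fintype.card_fin, mul_comm]

theorem finrank_Spec_field {k B : Type u} [Field k] [CommRing B] [Algebra k B] [Module.Finite k B]
    (s : PrimeSpectrum k) :
    (Spec.map (CommRingCat.ofHom (algebraMap k B))).finrank s = Module.finrank k B := by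
  rw [Scheme.Hom.finrank_SpecMap_algebraMap, Module.rankAtStalk_eq_finrank_of_free]
  rfl

/-- The rank of a finite scheme over a field through any affine model. -/
theorem exists_alg {k : Type u} [Field k] {Y : Scheme.{u}} (g : Y ⟶ Spec (CommRingCat.of k)) [IsFinite g] :
    ∃ (B : Type u) (_ : CommRing B) (_ : Algebra k B) (_ : Module.Finite k B)
      (e : Spec (CommRingCat.of B) ≅ Y), e.hom ≫ g = Spec.map (CommRingCat.ofHom (algebraMap k B)) ∧
        ∀ s, g.finrank s = Module.finrank k B := by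
  haveI : IsAffine Y := isAffine_of_isAffineHom g
  obtain ⟨ψ, hψ⟩ := Spec.map_surjective (Y.isoSpec.inv ≫ g)
  letI : Algebra k Γ(Y, ⊤) := ψ.hom.toAlgebra
  haveI : IsFinite (Spec.map ψ) := by rw [hψ]; infer_instance
  haveI : Module.Finite k Γ(Y, ⊤) := RingHom.finite_algebraMap.1 ((IsFinite.SpecMap_iff ψ).1 ‹_›)
  haveI : Flat g := AssLib.flat_over_field g
  refine ⟨Γ(Y, ⊤), inferInstance, inferInstance, inferInstance, Y.isoSpec.symm, hψ.symm, fun s => ?_⟩
  rw [← Scheme.Hom.finrank_comp_left_of_isIso Y.isoSpec.inv g, ← hψ]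
  exact finrank_Spec_field (k := k) (B := Γ(Y, ⊤)) s

theorem finrank_comp_field {k : Type u} [Field k] {X Y : Scheme.{u}} (f : X ⟶ Y)
    (g : Y ⟶ Spec (CommRingCat.of k)) [IsFinite f] [Flat f] [IsFinite g] (n : ℕ)
    (h : ∀ y, f.finrank y = n) (s) : (f ≫ g).finrank s = n * g.finrank s := by
  obtain ⟨B, _, _, _, e, he, hg⟩ := exists_alg g
  haveI : IsAffine Y := IsAffine.of_isIso e.inv
  haveI : IsAffine X := isAffine_of_isAffineHom f
  obtain ⟨φ, hφ⟩ := Spec.map_surjective (X.isoSpec.inv ≫ f ≫ e.inv)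
  letI : Algebra B Γ(X, ⊤) := φ.hom.toAlgebra
  letI : Algebra k Γ(X, ⊤) := (φ.hom.comp (algebraMap k B)).toAlgebra
  haveI : IsScalarTower k B Γ(X, ⊤) := IsScalarTower.of_algebraMap_eq fun _ => rfl
  haveI : IsFinite (Spec.map φ) := by rw [hφ]; infer_instance
  haveI : Flat (Spec.map φ) := by rw [hφ]; infer_instance
  haveI : Module.Finite B Γ(X, ⊤) := RingHom.finite_algebraMap.1 ((IsFinite.SpecMap_iff φ).1 ‹_›)
  haveI : Module.Flat B Γ(X, ⊤) := RingHom.flat_algebraMap_iff.1 (Flat.SpecMap_iff.1 ‹_›)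
  haveI : Module.Finite k Γ(X, ⊤) := Module.Finite.trans B _
  have sq : IsPullback X.isoSpec.inv (Spec.map φ) f e.hom :=
    IsPullback.of_horiz_isIso ⟨by rw [hφ, Category.assoc, Category.assoc, Iso.inv_hom_id, Category.comp_id]⟩
  have hn : ∀ p : PrimeSpectrum B, Module.rankAtStalk Γ(X, ⊤) p = n := fun p => by
    rw [← Scheme.Hom.finrank_SpecMap_algebraMap B Γ(X, ⊤) p]
    exact (Scheme.Hom.finrank_of_isPullback _ _ _ _ sq p).trans (h _)
  haveI : IsFinite (f ≫ g) := inferInstance
  haveI : Flat (f ≫ g) := AssLib.flat_over_field _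
  rw [hg, ← finrank_alg (k := k) n hn, ← Scheme.Hom.finrank_comp_left_of_isIso X.isoSpec.inv (f ≫ g)]
  have : X.isoSpec.inv ≫ f ≫ g = Spec.map (CommRingCat.ofHom (algebraMap k Γ(X, ⊤))) := by
    rw [show CommRingCat.ofHom (algebraMap k Γ(X, ⊤)) = CommRingCat.ofHom (algebraMap k B) ≫ φ from rfl,
      Spec.map_comp, hφ, ← he]
    simp
  rw [this]
  exact finrank_Spec_field (k := k) (B := Γ(X, ⊤)) s

theorem finrank_comp {X Y S : Scheme.{u}} (f : X ⟶ Y) (g : Y ⟶ S) [IsFinite f] [Flat f] [IsFinite g]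
    [Flat g] (n : ℕ) (h : ∀ y, f.finrank y = n) (s : S) : (f ≫ g).finrank s = n * g.finrank s := by
  let σ := S.fromSpecResidueField s
  let t : Spec (S.residueField s) := IsLocalRing.closedPoint (S.residueField s)
  have hσ : σ t = s := Scheme.fromSpecResidueField_apply _ _
  rw [← hσ, ← Scheme.Hom.finrank_pullback_snd (f ≫ g) σ t, ← Scheme.Hom.finrank_pullback_snd g σ t,
    ← pullbackRightPullbackFstIso_inv_snd_snd g σ f, Scheme.Hom.finrank_comp_left_of_isIso]
  exact finrank_comp_field (k := S.residueField s) _ _ n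
    (fun y => (Scheme.Hom.finrank_pullback_snd f _ y).trans (h _)) t

/-- A closed immersion of finite schemes of equal rank over a field is an isomorphism. -/
theorem isIso_of_closedImmersion {k : Type u} [Field k] {X Y : Scheme.{u}} (i : X ⟶ Y) [IsClosedImmersion i]
    (g : Y ⟶ Spec (CommRingCat.of k)) [IsFinite g] (s) (h : (i ≫ g).finrank s = g.finrank s) : IsIso i := by
  obtain ⟨B, _, _, _, eY, heY, hgY⟩ := exists_alg g
  obtain ⟨C, _, _, _, eX, heX, hgX⟩ := exists_alg (i ≫ g)
  rw [hgX, hgY] at h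
  obtain ⟨φ, hφ⟩ := Spec.map_surjective (eX.hom ≫ i ≫ eY.inv)
  haveI : IsClosedImmersion (Spec.map φ) := by rw [hφ]; infer_instance
  have hc : φ.hom.comp (algebraMap k B) = algebraMap k C := by
    have e : Spec.map φ ≫ Spec.map (CommRingCat.ofHom (algebraMap k B)) =
        Spec.map (CommRingCat.ofHom (algebraMap k C)) := by rw [← heY, ← heX, hφ]; simp
    rw [← Spec.map_comp] at e
    exact congrArg CommRingCat.Hom.hom (Spec.map_inj.1 e)
  let φ' : B →ₐ[k] C := { φ.hom with commutes' := fun r => RingHom.congr_fun hc r }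
  have hs : Function.Surjective φ'.toLinearMap :=
    fun c => by
      obtain ⟨b, hb⟩ := (isClosedImmersion_iff_isAffineHom.1 ‹IsClosedImmersion (Spec.map φ)›).2 ⊤ (isAffineOpen_top _)
        ((Scheme.ΓSpecIso (CommRingCat.of C)).inv c)
      refine ⟨(Scheme.ΓSpecIso (CommRingCat.of B)).hom b, ?_⟩
      have := congrArg (fun t => (ConcreteCategory.hom t) b) (Scheme.ΓSpecIso_naturality φ)
      simp only [ConcreteCategory.comp_apply] at this
      rw [show ((Spec.map φ).appTop) b = (Scheme.ΓSpecIso (CommRingCat.of C)).inv c from hb, Iso.inv_hom_id_apply] at this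
      exact this.symm
  have hi := (LinearMap.injective_iff_surjective_of_finrank_eq_finrank h.symm).2 hs
  haveI : IsIso φ := (ConcreteCategory.isIso_iff_bijective φ).2 ⟨hi, hs⟩
  have : i = eX.inv ≫ Spec.map φ ≫ eY.hom := by rw [hφ]; simp
  rw [this]; infer_instance

end Groth.Agent.AbSchX.FinRank
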