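import Groth.Agent.AbSchX.CubeBase.General
import Groth.Agent.H23.PullPush
import Groth.Agent.GrpOmega.Shear
import Groth.Agent.ParLib.Omega
import Groth.Agent.S7795

/-! Invariant differentials of an abelian scheme. -/

set_option autoImplicit false
set_option linter.style.haveILetI false
set_option backward.isDefEq.respectTransparency.types false
universe u

open CategoryTheory CategoryTheory.Limits AlgebraicGeometry TopologicalSpace Opposite
open scoped CategoryTheory.MonObj

namespace Groth.Agent.AbSchX.InvDiff

open Groth.Agent.H23 Groth.Agent.H23.TrivBasic Groth.Agent.AbSchX.CubeBase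

set_option backward.isDefEq.respectTransparency false in
theorem app_injective_of_section {Z X : Scheme.{u}} (q : Z ⟶ X) (d : X ⟶ Z) (hd : d ≫ q = 𝟙 X) (V : X.Opens) :
    Function.Injective (q.app V) := by
  intro a b hab
  have e := Scheme.Hom.congr_app hd V
  rw [Scheme.Hom.comp_app] at e
  have h1 := congrArg (d.app (q ⁻¹ᵁ V)) hab
  rw [← CommRingCat.comp_apply, ← CommRingCat.comp_apply, e, Scheme.Hom.id_app] at h1
  exact (ConcreteCategory.bijective_of_isIso (X.presheaf.map _)).1 h1

/-- A proper flat family with geometrically integral fibres and a section has only constant functions. -/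
theorem bijective_app_any {X S : Scheme.{u}} (p : X ⟶ S) [IsProper p] [Flat p] [LocallyOfFinitePresentation p]
    [GeometricallyIntegral p] (x : S ⟶ X) (hx : x ≫ p = 𝟙 S) (U : S.Opens) : Function.Bijective (p.app U) := by
  have hO : Triv (Coh.structureModule (pullback p p)) := ⟨Iso.refl _⟩
  have h0 : ∀ s, SeesawGlobal.FieldH0 p s := fun s =>
    PicFRel.UnivH0.fieldH0_of_fibre p s (RigidApply.constFibres_of_geometricallyIntegral p s)
  choose V hV hF hbij using fun s => exists_local_any p p x hx x hx (Coh.structureModule (pullback p p))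
    hO.isInvertible (hO.pullback _) (hO.pullback _) s (h0 s) (h0 s) fun K _ k _ => hO.pullback _
  have h : ∀ W : S.Opens, Function.Bijective ((prodHom p p).app W) := fun W => by
    refine PicFRel.UnivH0.bijective_app_of_isBasis _ (Bs := {U : S.Opens | IsAffineOpen U ∧ ∃ s, U ≤ V s}) ?_
      (fun U ⟨hU, s, hUs⟩ => hbij s U hU hUs) W
    refine Opens.isBasis_iff_nbhd.2 fun {U z} hz => ?_
    obtain ⟨_, ⟨O, hO, rfl⟩, hzO, hle⟩ := S.isBasis_affineOpens.exists_subset_of_mem_open
      (show z ∈ (U ⊓ V z : S.Opens) from ⟨hz, hV z⟩) (U ⊓ V z).isOpen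
    exact ⟨O, ⟨hO, z, fun w hw => (hle hw).2⟩, hzO, fun w hw => (hle hw).1⟩
  have hb := h U
  have hd : pullback.lift (𝟙 X) (𝟙 X) rfl ≫ pullback.fst p p = 𝟙 X := pullback.lift_fst _ _ _
  have hinj := app_injective_of_section (pullback.fst p p) _ hd (p ⁻¹ᵁ U)
  rw [prodHom, Scheme.Hom.comp_app] at hb
  refine ⟨fun a b hab => hb.1 ((congrArg _ hab :)), fun r => ?_⟩
  obtain ⟨a, ha⟩ := hb.2 ((pullback.fst p p).app (p ⁻¹ᵁ U) r)
  exact ⟨a, hinj ha⟩

theorem isIso_unit_of_eq_id {S : Scheme.{u}} (g : S ⟶ S) (hg : g = 𝟙 S) (E : S.Modules) :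
    IsIso ((Scheme.Modules.pullbackPushforwardAdjunction g).unit.app E) := by
  subst hg
  haveI : (Scheme.Modules.pullback (𝟙 S)).Full := Functor.Full.of_iso (Scheme.Modules.pullbackId S).symm
  haveI : (Scheme.Modules.pullback (𝟙 S)).Faithful := Functor.Faithful.of_iso (Scheme.Modules.pullbackId S).symm
  infer_instance

/-- The restriction along a section of a sheaf pulled back from the base, on direct images. -/
theorem isIso_map_unit_section {X S : Scheme.{u}} (f : X ⟶ S) (e : S ⟶ X) (he : e ≫ f = 𝟙 S)
    (hf : ∀ U : S.Opens, Function.Bijective (f.app U)) (E : S.Modules) (hE : FlatMod.IsFinLocFree E)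
    {F : X.Modules} (θ : (Scheme.Modules.pullback f).obj E ≅ F) :
    IsIso ((Scheme.Modules.pushforward f).map ((Scheme.Modules.pullbackPushforwardAdjunction e).unit.app F)) := by
  haveI := PullPush.isIso_unit_of_isFinLocFree f hf E hE
  have h := unit_conjugateEquiv ((Scheme.Modules.pullbackPushforwardAdjunction f).comp
    (Scheme.Modules.pullbackPushforwardAdjunction e)) (Scheme.Modules.pullbackPushforwardAdjunction (e ≫ f))
    (Scheme.Modules.pullbackComp e f).inv E
  rw [Scheme.Modules.conjugateEquiv_pullbackComp_inv, Adjunction.comp_unit_app] at h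
  haveI := isIso_unit_of_eq_id (e ≫ f) he E
  haveI h1 : IsIso (((Scheme.Modules.pullbackPushforwardAdjunction f).unit.app E ≫
      (Scheme.Modules.pushforward f).map ((Scheme.Modules.pullbackPushforwardAdjunction e).unit.app
        ((Scheme.Modules.pullback f).obj E))) ≫ (Scheme.Modules.pushforwardComp e f).hom.app _) := by
    erw [h]; infer_instance
  haveI h2 := IsIso.of_isIso_comp_right ((Scheme.Modules.pullbackPushforwardAdjunction f).unit.app E ≫
      (Scheme.Modules.pushforward f).map ((Scheme.Modules.pullbackPushforwardAdjunction e).unit.app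
        ((Scheme.Modules.pullback f).obj E))) ((Scheme.Modules.pushforwardComp e f).hom.app _)
  haveI h3 := IsIso.of_isIso_comp_left ((Scheme.Modules.pullbackPushforwardAdjunction f).unit.app E)
    ((Scheme.Modules.pushforward f).map ((Scheme.Modules.pullbackPushforwardAdjunction e).unit.app
      ((Scheme.Modules.pullback f).obj E)))
  have hn := congrArg (Scheme.Modules.pushforward f).map
    ((Scheme.Modules.pullbackPushforwardAdjunction e).unit.naturality θ.inv)
  simp only [Functor.id_map, Functor.comp_map, Functor.map_comp] at hn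
  haveI : IsIso ((Scheme.Modules.pushforward f).map ((Scheme.Modules.pullbackPushforwardAdjunction e).unit.app F) ≫
      (Scheme.Modules.pushforward f).map ((Scheme.Modules.pushforward e).map ((Scheme.Modules.pullback e).map θ.inv))) := by
    rw [← hn]; infer_instance
  exact IsIso.of_isIso_comp_right _
    ((Scheme.Modules.pushforward f).map ((Scheme.Modules.pushforward e).map ((Scheme.Modules.pullback e).map θ.inv)))

/-- Sections of a sheaf pulled back from the base are those of its restriction along a section. -/
theorem bijective_unit_app_top {X S : Scheme.{u}} (f : X ⟶ S) (e : S ⟶ X) (he : e ≫ f = 𝟙 S)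
    (hf : ∀ U : S.Opens, Function.Bijective (f.app U)) (E : S.Modules) (hE : FlatMod.IsFinLocFree E)
    {F : X.Modules} (θ : (Scheme.Modules.pullback f).obj E ≅ F) :
    Function.Bijective (((Scheme.Modules.pullbackPushforwardAdjunction e).unit.app F).val.app (op ⊤)).hom := by
  haveI := isIso_map_unit_section f e he hf E hE θ
  have h : Function.Bijective (Scheme.Modules.Hom.app ((Scheme.Modules.pushforward f).map
      ((Scheme.Modules.pullbackPushforwardAdjunction e).unit.app F)) ⊤) :=
    (ConcreteCategory.isIso_iff_bijective _).1 (Scheme.Modules.Hom.isIso_iff_isIso_app.1 this ⊤)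
  exact h

variable {S : Scheme.{u}} (A : Over S) [GrpObj A] [IsProper A.hom] [Flat A.hom]
  [LocallyOfFinitePresentation A.hom] [GeometricallyReduced A.hom] [GeometricallyConnected A.hom]

theorem bijective_app (U : S.Opens) : Function.Bijective (A.hom.app U) :=
  haveI := AbBasic.geometricallyIntegral A
  bijective_app_any A.hom η[A].left (Over.w η[A]) U

end Groth.Agent.AbSchX.InvDiff
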