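import Groth.Prelude.Def_AlgGrp
import Mathlib.CategoryTheory.Monoidal.Cartesian.Grp
import Mathlib.CategoryTheory.Monoidal.Cartesian.Over

/-! Kernels of homomorphisms through their points. -/

open CategoryTheory MonoidalCategory CartesianMonoidalCategory MonObj AlgebraicGeometry

universe u

namespace Groth.Agent.AbSchX.KerPts

variable {S : Scheme.{u}} {N G Q : Over S} [GrpObj Q] {i : N ⟶ G} {q : G ⟶ Q}

theorem comp_eq_one (h : AlgGrp.IsKernel i q) : i ≫ q = 1 := h.w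

theorem mono (h : AlgGrp.IsKernel i q) : Mono i :=
  ⟨fun _ _ hab => h.hom_ext hab (toUnit_unique _ _)⟩

theorem exists_lift (h : AlgGrp.IsKernel i q) {T : Over S} (x : T ⟶ G) (hx : x ≫ q = 1) :
    ∃ y : T ⟶ N, y ≫ i = x :=
  ⟨h.lift x (toUnit _) hx, h.lift_fst _ _ _⟩

theorem of_points [Mono i] (hiq : i ≫ q = 1)
    (hlift : ∀ {T : Over S} (x : T ⟶ G), x ≫ q = 1 → ∃ y : T ⟶ N, y ≫ i = x) : AlgGrp.IsKernel i q := by
  have hs : ∀ s : Limits.PullbackCone q η[Q], s.fst ≫ q = 1 := fun s => by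
    rw [s.condition, Hom.one_def, toUnit_unique s.snd (toUnit _)]
  exact ⟨⟨hiq⟩, ⟨Limits.PullbackCone.IsLimit.mk (eq := hiq) (fun s => (hlift s.fst (hs s)).choose)
    (fun s => (hlift s.fst (hs s)).choose_spec) (fun s => toUnit_unique _ _)
    (fun s m h1 _ => by rw [← cancel_mono i, h1, (hlift s.fst (hs s)).choose_spec])⟩⟩

theorem comp_id_pow [GrpObj G] {T : Over S} (x : T ⟶ G) (n : ℕ) : x ≫ (𝟙 G) ^ n = x ^ n := by
  rw [MonObj.comp_pow, Category.comp_id]

end Groth.Agent.AbSchX.KerPts
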