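import Groth.Agent.AbSchX.FinRank
import Groth.Agent.AbSchX.KerPts
import Groth.Agent.GrpSchLib.ImageFactor
import Groth.Agent.GrpSchLib.HomFibre
import Groth.Prelude.Def_Red

/-! Homomorphisms of finite flat group schemes with complementary orders of source, kernel and target. -/

open CategoryTheory Limits AlgebraicGeometry MonoidalCategory CartesianMonoidalCategory MonObj

universe u

namespace Groth.Agent.AbSchX.FinHom

variable {S : Scheme.{u}}

theorem isKernel_bc {N G Q : Over S} [GrpObj Q] {i : N ⟶ G} {q : G ⟶ Q} (h : AlgGrp.IsKernel i q)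
    {T : Scheme.{u}} (σ : T ⟶ S) :
    AlgGrp.IsKernel ((Over.pullback σ).map i) ((Over.pullback σ).map q) := by
  let F := Over.pullback σ
  have h1 : IsPullback (F.map i) (F.map (toUnit N)) (F.map q) (F.map η[Q]) := h.map F
  refine h1.of_iso (Iso.refl _) (Iso.refl _) (asIso (Functor.LaxMonoidal.ε F)).symm (Iso.refl _)
    (by simp [F]) (toUnit_unique _ _) (by simp [F]) ?_
  simp only [Iso.refl_hom, Category.comp_id, Iso.symm_hom, asIso_inv]
  rw [IsIso.eq_inv_comp]
  rfl

section Pair

variable {N G Q : Over S} [GrpObj G] [GrpObj Q] {i : N ⟶ G} {q : G ⟶ Q} [IsMonHom q]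

theorem finrank_apply (h : AlgGrp.IsKernel i q) [IsFinite N.hom] [Flat N.hom] [IsFinite q.left] [Flat q.left]
    (x : G.left) : q.left.finrank (q.left x) = N.hom.finrank (G.hom x) := by
  obtain ⟨p, hp, hps⟩ := GrpSchLib.exists_kernelPair_iso i q h
  rw [← Scheme.Hom.finrank_pullback_snd q.left q.left x,
    show pullback.snd q.left q.left = inv p ≫ (snd N G).left by rw [← hps, IsIso.inv_hom_id_assoc]]
  haveI : IsFinite (snd N G).left := inferInstanceAs (IsFinite (pullback.snd N.hom G.hom))
  haveI : Flat (snd N G).left := inferInstanceAs (Flat (pullback.snd N.hom G.hom))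
  rw [Scheme.Hom.finrank_comp_left_of_isIso]
  exact Scheme.Hom.finrank_pullback_snd N.hom G.hom x

end Pair

theorem isFinite_kernel {N G Q : Over S} [GrpObj Q] [IsSeparated Q.hom] [IsFinite G.hom] {i : N ⟶ G} {q : G ⟶ Q}
    (h : AlgGrp.IsKernel i q) : IsFinite N.hom := by
  haveI : IsClosedImmersion η[Q].left := by
    haveI : IsClosedImmersion (η[Q].left ≫ Q.hom) := by
      rw [Over.w η[Q]]
      exact inferInstanceAs (IsClosedImmersion (𝟙 S))
    exact IsClosedImmersion.of_comp η[Q].left Q.hom
  haveI : IsClosedImmersion i.left :=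
    MorphismProperty.of_isPullback (P := @IsClosedImmersion) (h.map (Over.forget S)).flip
      (inferInstanceAs (IsClosedImmersion η[Q].left))
  rw [← Over.w i]; infer_instance

theorem isFinite_left {G Q : Over S} [IsFinite G.hom] [IsSeparated Q.hom] (q : G ⟶ Q) : IsFinite q.left := by
  haveI : IsFinite (q.left ≫ Q.hom) := by rw [Over.w q]; infer_instance
  exact IsFinite.of_comp q.left Q.hom

/-- Over a field. -/
theorem hom_field {k : Type u} [Field k] {N G Q : Over (Spec (CommRingCat.of k))} [GrpObj G] [GrpObj Q]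
    [IsFinite G.hom] [IsFinite Q.hom] {i : N ⟶ G} {q : G ⟶ Q} [IsMonHom q] (h : AlgGrp.IsKernel i q)
    (s) (hn : G.hom.finrank s = N.hom.finrank s * Q.hom.finrank s) : Flat q.left ∧ Surjective q.left := by
  obtain ⟨I, _, p, j, hp, hj, hpj, hji, hpf, hps, -, -⟩ := GrpSchLib.ImageFactor.exists_image q
  haveI := hp; haveI := hj; haveI := hji; haveI := hpf; haveI := hps
  haveI : Mono j := (Over.forget _).mono_of_mono_map (inferInstanceAs (Mono j.left))
  haveI : IsFinite I.hom := by rw [← Over.w j]; infer_instance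
  haveI := isFinite_kernel h
  haveI := isFinite_left p
  haveI : Flat N.hom := AssLib.flat_over_field _
  haveI := KerPts.mono h
  have hkp : AlgGrp.IsKernel i p := KerPts.of_points
    (by rw [← cancel_mono j, Category.assoc, hpj, KerPts.comp_eq_one h, MonObj.one_comp])
    (fun x hx => KerPts.exists_lift h x (by rw [← hpj, reassoc_of% hx, MonObj.one_comp]))
  have hr : ∀ y, p.left.finrank y = N.hom.finrank s := fun y => by
    obtain ⟨x, rfl⟩ := p.left.surjective y
    exact (finrank_apply hkp x).trans (congrArg _ (Subsingleton.elim _ _))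
  haveI : Flat I.hom := AssLib.flat_over_field _
  have hG := FinRank.finrank_comp p.left I.hom _ hr s
  rw [Over.w p, hn] at hG
  have hpos : 0 < N.hom.finrank s := by
    have := Scheme.Hom.one_le_finrank_map p.left (η[G].left (IsLocalRing.closedPoint k))
    rw [hr] at this
    omega
  have e : j.left ≫ Q.hom = I.hom := Over.w j
  haveI : IsIso j.left := by
    refine FinRank.isIso_of_closedImmersion j.left Q.hom s ?_
    rw [e]
    exact (Nat.eq_of_mul_eq_mul_left hpos hG).symm
  rw [← hpj, Over.comp_left]
  exact ⟨inferInstance, inferInstance⟩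

/-- The rank of a finite flat group scheme multiplies in exact sequences; conversely the equality of ranks forces
faithful flatness. -/
theorem flat_surjective_of_finrank {N G Q : Over S} [GrpObj G] [GrpObj Q]
    [IsFinite G.hom] [Flat G.hom] [LocallyOfFinitePresentation G.hom] [IsFinite Q.hom] [Flat Q.hom]
    {i : N ⟶ G} {q : G ⟶ Q} [IsMonHom q] (h : AlgGrp.IsKernel i q) [IsFinite N.hom] [Flat N.hom]
    (hn : ∀ s, G.hom.finrank s = N.hom.finrank s * Q.hom.finrank s) :
    Flat q.left ∧ Surjective q.left ∧ IsFinite q.left ∧ LocallyOfFinitePresentation q.left ∧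
      ∀ y, q.left.finrank y = N.hom.finrank (Q.hom y) := by
  have key : ∀ s : S, Flat ((Over.pullback (S.fromSpecResidueField s)).map q).left ∧
      Surjective ((Over.pullback (S.fromSpecResidueField s)).map q).left := fun s => by
    let σ := S.fromSpecResidueField s
    haveI : IsFinite (Red.bc σ G).hom := inferInstanceAs (IsFinite (pullback.snd G.hom σ))
    haveI : IsFinite (Red.bc σ Q).hom := inferInstanceAs (IsFinite (pullback.snd Q.hom σ))
    refine hom_field (k := S.residueField s) (isKernel_bc h σ) (IsLocalRing.closedPoint (S.residueField s)) ?_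
    show (pullback.snd G.hom σ).finrank _ = (pullback.snd N.hom σ).finrank _ * (pullback.snd Q.hom σ).finrank _
    refine (Scheme.Hom.finrank_pullback_snd G.hom σ _).trans ((hn _).trans ?_)
    exact (congrArg₂ (· * ·) (Scheme.Hom.finrank_pullback_snd N.hom σ _)
      (Scheme.Hom.finrank_pullback_snd Q.hom σ _)).symm
  haveI := GrpSchLib.HomFibre.lfp_of_flat_lfp q
  haveI hfl : Flat q.left := Flat.of_stalkMap _ fun x => by
    obtain ⟨z, hz⟩ := GrpSchLib.HomFibre.exists_incl x
    haveI := (key (G.hom x)).1
    rw [← hz]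
    exact GrpSchLib.HomFibre.flat_of_fibre_flat q.left Q.hom G.hom (Over.w q) _ z
      ((Over.pullback (S.fromSpecResidueField (G.hom x))).map q).left
      (pullback.lift_fst _ _ _) (Over.w ((Over.pullback (S.fromSpecResidueField (G.hom x))).map q))
      (Flat.stalkMap _ _)
  haveI hsur : Surjective q.left := ⟨fun y => by
    obtain ⟨z, hz⟩ := GrpSchLib.HomFibre.exists_incl y
    haveI := (key (Q.hom y)).2
    obtain ⟨w, hw⟩ := ((Over.pullback (S.fromSpecResidueField (Q.hom y))).map q).left.surjective z
    refine ⟨GrpSchLib.HomFibre.incl G _ w, ?_⟩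
    rw [← Scheme.Hom.comp_apply, (GrpSchLib.HomFibre.map_isPullback q _).w, Scheme.Hom.comp_apply, hw]
    exact hz⟩
  haveI hqf := isFinite_left q
  refine ⟨hfl, hsur, hqf, inferInstance, fun y => ?_⟩
  obtain ⟨x, rfl⟩ := q.left.surjective y
  rw [finrank_apply h x, ← Scheme.Hom.comp_apply, Over.w q]

end Groth.Agent.AbSchX.FinHom
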