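import Groth.Agent.H23.MaxAbelian
import Groth.Agent.H23.GeomConn
import Groth.Agent.GrpSchLib.SmoothReduced
import Groth.Prelude.Def_Red

/-! Abelian schemes have geometrically integral fibres. -/

open CategoryTheory Limits AlgebraicGeometry MonoidalCategory CartesianMonoidalCategory MonObj

universe u

namespace Groth.Agent.AbSchX.AbBasic

theorem geometricallyReduced_of_smooth {X S : Scheme.{u}} (f : X ⟶ S) [Smooth f] : GeometricallyReduced f := by
  constructor
  intro L _ y P fst snd h
  have : Smooth snd := MorphismProperty.of_isPullback h inferInstance
  exact GrpSchLib.isReduced_of_smooth_field snd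

theorem geometricallyIntegral {S : Scheme.{u}} (A : Over S) [GrpObj A] [IsProper A.hom]
    [GeometricallyReduced A.hom] [GeometricallyConnected A.hom] : GeometricallyIntegral A.hom := by
  refine H23.MaxAbelian.geometricallyIntegral_of_pullback A.hom fun K _ x => ?_
  haveI : IsProper (Red.bc x A).hom := inferInstanceAs (IsProper (pullback.snd A.hom x))
  haveI : GeometricallyReduced (Red.bc x A).hom := inferInstanceAs (GeometricallyReduced (pullback.snd A.hom x))
  haveI : GeometricallyConnected (Red.bc x A).hom := inferInstanceAs (GeometricallyConnected (pullback.snd A.hom x))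
  haveI : ConnectedSpace (Red.bc x A).left := GeometricallyConnected.connectedSpace_of_subsingleton (Red.bc x A).hom
  haveI := H23.MaxAbelian.geometricallyIntegral_of_connected (Red.bc x A)
  exact H23.MaxAbelian.isIntegral_of_geometricallyIntegral (X := Red.bc x A)

theorem geometricallyIntegral_of_smooth {S : Scheme.{u}} (A : Over S) [GrpObj A] [Smooth A.hom] [IsProper A.hom]
    (h : ∀ s : S, ConnectedSpace ↥(A.hom.fiber s)) : GeometricallyIntegral A.hom := by
  haveI := geometricallyReduced_of_smooth A.hom
  haveI := H23.GeomConn.of_grp A h
  exact geometricallyIntegral A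

end Groth.Agent.AbSchX.AbBasic
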