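import Groth.Agent.AbSchX.TorusHomBC
import Groth.Agent.AbSchX.AbBasic
import Groth.Agent.H23.RigidAb
import Groth.Agent.GrpSchLib.AffineHopf

/-! Homomorphisms from abelian schemes to tori are trivial. -/

open CategoryTheory Limits AlgebraicGeometry MonoidalCategory CartesianMonoidalCategory MonObj

universe u

namespace Groth.Agent.AbSchX.AbToTorus

variable {S : Scheme.{u}}

/-- A morphism to an affine scheme from a scheme with constant functions over a field is constant. -/
theorem constant_of_isAffine {K : Type u} [Field K] {P Q : Scheme.{u}} (π : P ⟶ Spec (CommRingCat.of K))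
    (hπ : Function.Bijective π.appTop) [IsAffine Q] (u : P ⟶ Q) : ∃ y : Q, ∀ z, u z = y := by
  haveI : IsIso π.appTop := (ConcreteCategory.isIso_iff_bijective _).2 hπ
  let ρ : Spec (CommRingCat.of K) ⟶ Q :=
    (Spec (CommRingCat.of K)).toSpecΓ ≫ Spec.map (u.appTop ≫ inv π.appTop) ≫ Q.isoSpec.inv
  have e : u = π ≫ ρ := by
    rw [← cancel_mono Q.isoSpec.hom]
    simp only [ρ, Category.assoc, Iso.inv_hom_id, Category.comp_id]
    rw [Scheme.toSpecΓ_naturality_assoc, ← Spec.map_comp, Category.assoc, IsIso.inv_hom_id, Category.comp_id]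
    exact Scheme.toSpecΓ_naturality u
  refine ⟨ρ (IsLocalRing.closedPoint K), fun z => ?_⟩
  rw [e, Scheme.Hom.comp_apply]
  exact congrArg ρ (Subsingleton.elim _ _)

theorem isAffine_DS (K : Type u) [Field K] (r : ℕ) :
    IsAffine (Red.DS (Spec (CommRingCat.of K)) (Fin r → ℤ)).left := by
  obtain ⟨d⟩ := GrpSchLib.AffineHopf.nonempty_DS_iso K (Fin r → ℤ)
  exact @IsAffine.of_isIso _ _ ((Over.forget _).mapIso ((Grp.forget _).mapIso d.symm)).hom (Iso.isIso_hom _)
    (isAffine_Spec _)

/-- Homomorphisms from an abelian scheme to a torus are trivial after every base change. -/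
theorem bc_hom_eq_one (A T : Over S) [GrpObj A] [IsProper A.hom] [Flat A.hom] [LocallyOfFinitePresentation A.hom]
    [GeometricallyReduced A.hom] [GeometricallyConnected A.hom] [GrpObj T] (hT : Red.IsTorus T)
    {X : Scheme.{u}} (g : X ⟶ S) (v : Red.bc g A ⟶ Red.bc g T) [IsMonHom v] : v = 1 := by
  haveI : IsProper (Red.bc g A).hom := inferInstanceAs (IsProper (pullback.snd A.hom g))
  haveI : Flat (Red.bc g A).hom := inferInstanceAs (Flat (pullback.snd A.hom g))
  haveI : LocallyOfFinitePresentation (Red.bc g A).hom :=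
    inferInstanceAs (LocallyOfFinitePresentation (pullback.snd A.hom g))
  haveI : GeometricallyReduced (Red.bc g A).hom := inferInstanceAs (GeometricallyReduced (pullback.snd A.hom g))
  haveI : GeometricallyConnected (Red.bc g A).hom := inferInstanceAs (GeometricallyConnected (pullback.snd A.hom g))
  obtain ⟨S', g₀, hfl, hsurj, hcov, hloc⟩ := hT
  have h : ∀ x, x ∈ H23.RigidNoeth.collapsed (Red.bc g A).hom v.left := fun x => by
    obtain ⟨s', hs'⟩ := g₀.surjective (g x)
    obtain ⟨U, hs, r, ⟨e⟩⟩ := hloc s'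
    let y₀ : (U : Scheme.{u}) := ⟨s', hs⟩
    obtain ⟨z, hz1, -⟩ := Scheme.Pullback.exists_preimage_pullback (f := g) (g := U.ι ≫ g₀) x y₀
      (by rw [Scheme.Hom.comp_apply]; exact hs'.symm)
    let τ := (pullback g (U.ι ≫ g₀)).fromSpecResidueField z
    let σ₁ := τ ≫ pullback.fst g (U.ι ≫ g₀)
    let σ₂ := τ ≫ pullback.snd g (U.ι ≫ g₀)
    let K := (pullback g (U.ι ≫ g₀)).residueField z
    have hσ : σ₁ ≫ g = σ₂ ≫ U.ι ≫ g₀ := by simp only [σ₁, σ₂, Category.assoc, pullback.condition]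
    obtain ⟨e₁⟩ := GrpSchLib.MultTypeBC.bc_bc σ₁ g T
    obtain ⟨e₂⟩ := GrpSchLib.MultTypeBC.bc_congr hσ T
    obtain ⟨e₃⟩ := GrpSchLib.MultTypeBC.bc_bc σ₂ (U.ι ≫ g₀) T
    obtain ⟨e₄⟩ := GrpSchLib.MultTypeBC.bc_iso σ₂ e
    obtain ⟨e₅⟩ := GrpSchLib.MultTypeBC.bc_DS σ₂ (Fin r → ℤ)
    let V := (Over.pullback σ₁).map v
    haveI : IsAffine (Red.bc σ₁ (Red.bc g T)).left :=
      @IsAffine.of_isIso _ _
        ((Over.forget _).mapIso ((Grp.forget _).mapIso (e₁ ≪≫ e₂ ≪≫ e₃.symm ≪≫ e₄ ≪≫ e₅))).hom (Iso.isIso_hom _)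
        (isAffine_DS K r)
    have : ConnectedSpace ↥(pullback (pullback.snd (Red.bc g A).hom σ₁)
        (Spec.map (CommRingCat.ofHom (algebraMap K (AlgebraicClosure K))))) :=
      GeometricallyConnected.geometrically_connectedSpace (f := pullback.snd (Red.bc g A).hom σ₁)
        _ _ _ (.of_hasPullback _ _)
    have : IsReduced (pullback (pullback.snd (Red.bc g A).hom σ₁)
        (Spec.map (CommRingCat.ofHom (algebraMap K (AlgebraicClosure K))))) :=
      GeometricallyReduced.geometrically_isReduced (f := pullback.snd (Red.bc g A).hom σ₁)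
        _ _ _ (.of_hasPullback _ _)
    obtain ⟨y, hy⟩ := constant_of_isAffine (K := K) (pullback.snd (Red.bc g A).hom σ₁)
      (H23.RigidGamma.bijective_appTop_of_algClosure (k := K) _) V.left
    refine ⟨pullback.fst (Red.bc g T).hom σ₁ y, fun w hw => ?_⟩
    obtain ⟨q, hq, -⟩ := Scheme.Pullback.exists_preimage_pullback (f := (Red.bc g A).hom) (g := σ₁) w
      (IsLocalRing.closedPoint K) (by
        rw [hw]
        show x = pullback.fst g (U.ι ≫ g₀) (τ _)
        rw [show τ (IsLocalRing.closedPoint _) = z from Scheme.fromSpecResidueField_apply _ _, hz1])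
    rw [← hq, ← hy q]
    show (pullback.fst (Red.bc g A).hom σ₁ ≫ v.left) q = (V.left ≫ pullback.fst (Red.bc g T).hom σ₁) q
    exact (congrArg (fun φ : pullback (Red.bc g A).hom σ₁ ⟶ (Red.bc g T).left => φ q) (pullback.lift_fst _ _ _)).symm
  rw [H23.RigidAb.eq_toUnit_comp η[Red.bc g A] v h, IsMonHom.one_hom v]
  rfl

end Groth.Agent.AbSchX.AbToTorus
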