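import Groth.Agent.AbSchX.BTLayers
import Groth.Agent.AbSchX.FinHom

/-! Exactness of `1 → G_1 → G_{t+1} → G_t → 1` for a Barsotti–Tate group. -/

open CategoryTheory MonoidalCategory CartesianMonoidalCategory MonObj AlgebraicGeometry

universe u

namespace Groth.Agent.AbSchX.BTExact

variable {S : Scheme.{u}} (ℓ h : ℕ) (G : BTGrp.ProBT ℓ S h)

theorem main (i : (t : ℕ) → (G.G 1 ⟶ G.G (t + 1))) (hi0 : i 0 = 𝟙 (G.G 1))
    (hi : ∀ t : ℕ, i (t + 1) = i t ≫ G.incl (t + 1)) (t : ℕ) :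
    AlgGrp.IsKernel (i t) (G.proj t) ∧ Mor2.IsFinLocFreeOfDeg (ℓ ^ h) (G.proj t).left ∧
      Surjective (G.proj t).left := by
  have h1 := BTLayers.isKernel_iter ℓ h G i hi0 hi t
  haveI := KerPts.mono h1
  haveI := KerPts.mono (G.isKernel t)
  have hk : AlgGrp.IsKernel (i t) (G.proj t) := by
    refine KerPts.of_points ?_ fun x hx => KerPts.exists_lift h1 x ?_
    · rw [← cancel_mono (G.incl t), Category.assoc, G.proj_incl, MonObj.one_comp]
      exact KerPts.comp_eq_one h1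
    · rw [← G.proj_incl, reassoc_of% hx, MonObj.one_comp]
  haveI : IsFinite (G.G 1).hom := (G.finLocFree 1).1.1
  haveI : Flat (G.G 1).hom := (G.finLocFree 1).1.2.1
  haveI : IsFinite (G.G t).hom := (G.finLocFree t).1.1
  haveI : Flat (G.G t).hom := (G.finLocFree t).1.2.1
  haveI : IsFinite (G.G (t + 1)).hom := (G.finLocFree (t + 1)).1.1
  haveI : Flat (G.G (t + 1)).hom := (G.finLocFree (t + 1)).1.2.1
  haveI : LocallyOfFinitePresentation (G.G (t + 1)).hom := (G.finLocFree (t + 1)).1.2.2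
  obtain ⟨hf, hs, hfin, hlfp, hr⟩ := FinHom.flat_surjective_of_finrank hk (fun s => by
    rw [(G.finLocFree 1).2 s, (G.finLocFree t).2 s, (G.finLocFree (t + 1)).2 s, ← pow_add]
    ring_nf)
  refine ⟨hk, ⟨⟨hfin, hf, hlfp⟩, fun y => ?_⟩, hs⟩
  rw [hr, (G.finLocFree 1).2, Nat.one_mul]

end Groth.Agent.AbSchX.BTExact
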