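import Groth.Prelude.Def_BT
import Groth.Agent.AbSchX.KerPts

/-! The first layer of a Barsotti–Tate group is the `ℓ`-torsion of every layer. -/

open CategoryTheory MonoidalCategory CartesianMonoidalCategory MonObj AlgebraicGeometry

universe u

namespace Groth.Agent.AbSchX.BTLayers

variable {S : Scheme.{u}} (ℓ h : ℕ) (G : BTGrp.ProBT ℓ S h)

theorem incl_zero_pow : (𝟙 (G.G 1)) ^ ℓ = 1 := by
  have h0 : G.incl 0 = 1 := by
    have := KerPts.comp_eq_one (G.isKernel 0)
    rwa [pow_zero, pow_one, Category.comp_id] at this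
  rw [← G.proj_incl 0, h0, MonObj.comp_one]

theorem isKernel_iter (i : (t : ℕ) → (G.G 1 ⟶ G.G (t + 1))) (hi0 : i 0 = 𝟙 (G.G 1))
    (hi : ∀ t : ℕ, i (t + 1) = i t ≫ G.incl (t + 1)) (t : ℕ) :
    AlgGrp.IsKernel (i t) ((𝟙 (G.G (t + 1))) ^ ℓ) := by
  induction t with
  | zero =>
    haveI : Mono (i 0) := by rw [hi0]; infer_instance
    refine KerPts.of_points ?_ fun x _ => ⟨x, ?_⟩
    · rw [hi0, Category.id_comp, incl_zero_pow ℓ h G]
    · exact hi0 ▸ Category.comp_id x
  | succ t ih =>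
    haveI := KerPts.mono ih
    haveI := KerPts.mono (G.isKernel (t + 1))
    haveI : Mono (i (t + 1)) := by rw [hi]; infer_instance
    refine KerPts.of_points ?_ fun x hx => ?_
    · have h1 := KerPts.comp_eq_one ih
      rw [KerPts.comp_id_pow] at h1 ⊢
      rw [hi, ← MonObj.pow_comp, h1, MonObj.one_comp]
    · rw [KerPts.comp_id_pow] at hx
      obtain ⟨y, hy⟩ := KerPts.exists_lift (G.isKernel (t + 1)) x (by
        rw [KerPts.comp_id_pow, pow_succ', pow_mul, hx, one_pow])
      have hy' : y ^ ℓ = 1 := by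
        rw [← cancel_mono (G.incl (t + 1)), MonObj.pow_comp, hy, hx, MonObj.one_comp]
      obtain ⟨z, hz⟩ := KerPts.exists_lift ih y (by rw [KerPts.comp_id_pow]; exact hy')
      exact ⟨z, by rw [hi, reassoc_of% hz, hy]⟩

end Groth.Agent.AbSchX.BTLayers
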