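import Groth.Agent.AbSchX.BiextPsi

/-! A biextension read through an embedding of its structure group in an injective sheaf. -/

universe u

open CategoryTheory CategoryTheory.Limits Opposite

namespace Groth.Agent.AbSchX.BiextClass

open SheafSect BiextDiv BiextGrp

variable {C : Type (u + 1)} [Category.{u} C] {J : GrothendieckTopology C}

/-- A biextension with a linearised embedding into `I`, and the cokernel `N`. -/
structure Datum (P Q G : Sheaf J AddCommGrpCat.{u + 1}) where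
  B : Biext J P Q G
  I : Sheaf J AddCommGrpCat.{u + 1}
  N : Sheaf J AddCommGrpCat.{u + 1}
  i : G ⟶ I
  π : I ⟶ N
  ψ : ∀ T : C, B.E.obj.obj (op T) → I.obj.obj (op T)
  ψ_map : ∀ {T T' : C} (f : T' ⟶ T) (x : B.E.obj.obj (op T)), ψ T' (B.E.obj.map f.op x) = I.obj.map f.op (ψ T x)
  ψ_act : ∀ T g x, ψ T (B.act T g x) = i.hom.app (op T) g + ψ T x
  ψ_add₂ : ∀ T x y h, ψ T (B.add₂ T x y h) = ψ T x + ψ T y
  inj : ∀ T, Function.Injective (i.hom.app (op T))
  exact : ∀ T v, π.hom.app (op T) v = 0 → ∃ g, i.hom.app (op T) g = v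
  πi : ∀ T g, π.hom.app (op T) (i.hom.app (op T) g) = 0

variable {P Q G : Sheaf J AddCommGrpCat.{u + 1}} (D : Datum P Q G)

/-- The obstruction class at a pair of sections. -/
def IsC (T : C) (p : P.obj.obj (op T)) (q : Q.obj.obj (op T)) (v : D.N.obj.obj (op T)) : Prop :=
  ∀ ⦃T' : C⦄ (f : T' ⟶ T) (x : D.B.E.obj.obj (op T')), D.B.πP T' x = P.obj.map f.op p →
    D.B.πQ T' x = Q.obj.map f.op q → D.π.hom.app (op T') (D.ψ T' x) = D.N.obj.map f.op v

theorem π_ψ_congr {T : C} {x y : D.B.E.obj.obj (op T)} (hp : D.B.πP T x = D.B.πP T y) (hq : D.B.πQ T x = D.B.πQ T y) :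
    D.π.hom.app (op T) (D.ψ T x) = D.π.hom.app (op T) (D.ψ T y) := by
  obtain ⟨g, rfl, -⟩ := D.B.existsUnique_act T x y hp hq
  rw [D.ψ_act, map_add, D.πi, _root_.zero_add]

theorem exists_isC (T : C) (p : P.obj.obj (op T)) (q : Q.obj.obj (op T)) : ∃! v, IsC D T p q v := by
  obtain ⟨R, hR, hloc⟩ := D.B.locallySurjective T p q
  obtain ⟨v, hv⟩ := glue D.N
    (fun T' f v => IsC D T' (P.obj.map f.op p) (Q.obj.map f.op q) v ∧
      ∃ x, D.B.πP T' x = P.obj.map f.op p ∧ D.B.πQ T' x = Q.obj.map f.op q)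
    (fun T' T'' f g v ⟨hv, x, hp, hq⟩ => ⟨fun T₃ h y hp' hq' => by
        rw [← map_map D.N.obj g h v]
        exact hv (h ≫ g) y (by rw [hp', map_map P.obj f g, map_map P.obj g h])
          (by rw [hq', map_map Q.obj f g, map_map Q.obj g h]),
      D.B.E.obj.map g.op x, by rw [D.B.πP_map, hp, map_map P.obj f g], by rw [D.B.πQ_map, hq, map_map Q.obj f g]⟩)
    (fun T' f v w ⟨hv, x, hp, hq⟩ ⟨hw, _⟩ => by
      have e1 := hv (𝟙 T') x (hp.trans (map_id P.obj _).symm) (hq.trans (map_id Q.obj _).symm)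
      have e2 := hw (𝟙 T') x (hp.trans (map_id P.obj _).symm) (hq.trans (map_id Q.obj _).symm)
      rw [map_id D.N.obj] at e1 e2
      exact e1.symm.trans e2) hR
    (fun T' f hf => by
      obtain ⟨x, hp, hq⟩ := hloc f hf
      refine ⟨D.π.hom.app (op T') (D.ψ T' x), fun T'' g y hp' hq' => ?_, x, hp, hq⟩
      rw [← app_map, ← D.ψ_map]
      exact π_ψ_congr D (by rw [hp', D.B.πP_map, hp]) (by rw [hq', D.B.πQ_map, hq]))
  refine ⟨v, fun T' f x hp hq => ?_, fun w hw => ext_of_local D.N hR fun T' f hf => ?_⟩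
  · refine ext_of_local D.N (J.pullback_stable f hR) fun T'' g hg => ?_
    rw [← app_map, ← D.ψ_map, ← map_map D.N.obj f g v]
    obtain ⟨h, -⟩ := hv (g ≫ f) hg
    refine (h (𝟙 T'') (D.B.E.obj.map g.op x) ?_ ?_).trans (map_id D.N.obj _)
    · rw [map_id P.obj, D.B.πP_map, hp, map_map P.obj f g]
    · rw [map_id Q.obj, D.B.πQ_map, hq, map_map Q.obj f g]
  · obtain ⟨h, x, hp, hq⟩ := hv f hf
    have e := h (𝟙 T') x (hp.trans (map_id P.obj _).symm) (hq.trans (map_id Q.obj _).symm)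
    rw [map_id D.N.obj] at e
    exact (hw f x hp hq).symm.trans e

/-- The obstruction pairing. -/
noncomputable def c (T : C) (p : P.obj.obj (op T)) (q : Q.obj.obj (op T)) : D.N.obj.obj (op T) :=
  (exists_isC D T p q).choose

theorem c_spec (T : C) (p : P.obj.obj (op T)) (q : Q.obj.obj (op T)) : IsC D T p q (c D T p q) :=
  (exists_isC D T p q).choose_spec.1

theorem c_unique {T : C} {p : P.obj.obj (op T)} {q : Q.obj.obj (op T)} {v : D.N.obj.obj (op T)}
    (h : IsC D T p q v) : v = c D T p q := (exists_isC D T p q).choose_spec.2 v h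

theorem c_eq {T : C} (x : D.B.E.obj.obj (op T)) :
    c D T (D.B.πP T x) (D.B.πQ T x) = D.π.hom.app (op T) (D.ψ T x) := by
  have h := c_spec D T _ _ (𝟙 T) x (map_id P.obj _).symm (map_id Q.obj _).symm
  rw [map_id D.N.obj] at h
  exact h.symm

theorem c_map {T T' : C} (f : T' ⟶ T) (p : P.obj.obj (op T)) (q : Q.obj.obj (op T)) :
    D.N.obj.map f.op (c D T p q) = c D T' (P.obj.map f.op p) (Q.obj.map f.op q) :=
  c_unique D fun T'' g x hp hq => (c_spec D T p q (g ≫ f) x (by rw [hp, map_map P.obj f g])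
    (by rw [hq, map_map Q.obj f g])).trans (map_map D.N.obj f g _)

theorem exists_lift₂ (T : C) (p : P.obj.obj (op T)) (q q' : Q.obj.obj (op T)) :
    ∃ R ∈ J T, ∀ ⦃T' : C⦄ (f : T' ⟶ T), R f → ∃ x y : D.B.E.obj.obj (op T'),
      D.B.πP T' x = P.obj.map f.op p ∧ D.B.πP T' y = P.obj.map f.op p ∧
      D.B.πQ T' x = Q.obj.map f.op q ∧ D.B.πQ T' y = Q.obj.map f.op q' := by
  obtain ⟨R₁, h₁, k₁⟩ := D.B.locallySurjective T p q
  obtain ⟨R₂, h₂, k₂⟩ := D.B.locallySurjective T p q'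
  refine ⟨R₁ ⊓ R₂, J.intersection_covering h₁ h₂, fun T' f hf => ?_⟩
  obtain ⟨x, hx, hx'⟩ := k₁ f hf.1
  obtain ⟨y, hy, hy'⟩ := k₂ f hf.2
  exact ⟨x, y, hx, hy, hx', hy'⟩

theorem c_add (T : C) (p : P.obj.obj (op T)) (q q' : Q.obj.obj (op T)) :
    c D T p (q + q') = c D T p q + c D T p q' := by
  obtain ⟨R, hR, k⟩ := exists_lift₂ D T p q q'
  refine ext_of_local D.N hR fun T' f hf => ?_
  obtain ⟨x, y, hx, hy, hx', hy'⟩ := k f hf
  have h : D.B.πP T' x = D.B.πP T' y := hx.trans hy.symm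
  rw [map_add, c_map, c_map, c_map, map_add, ← hx', ← hy', ← hx, c_eq, hx, ← hy, c_eq,
    ← map_add (D.π.hom.app (op T')).hom, ← D.ψ_add₂ T' x y h, hy, ← hx, ← c_eq, D.B.πP_add₂, D.B.πQ_add₂]

/-- The morphism attached to a section of `P`. -/
noncomputable def cT {T : C} (p : P.obj.obj (op T)) : (HomSh.homSh J Q D.N).obj.obj (op T) :=
  mkHom (fun U => AddMonoidHom.mk' (fun q => c D U.left (P.obj.map U.hom.op p) q) (c_add D U.left _))
    fun U V g q => by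
      show c D V.left _ _ = D.N.obj.map g.left.op (c D U.left _ q)
      rw [c_map, ← map_map P.obj U.hom g.left, Over.w g]

theorem cT_app {T : C} (p : P.obj.obj (op T)) (U : Over T) (q : Q.obj.obj (op U.left)) :
    ap (cT D p) U q = c D U.left (P.obj.map U.hom.op p) q := rfl

theorem cT_map {T T' : C} (f : T' ⟶ T) (p : P.obj.obj (op T)) :
    (HomSh.homSh J Q D.N).obj.map f.op (cT D p) = cT D (P.obj.map f.op p) :=
  hom_ext fun U q => by
    refine (ap_res f _ U q).trans ?_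
    show c D U.left (P.obj.map (U.hom ≫ f).op p) q = _
    rw [map_map P.obj f U.hom]
    rfl

/-- Sections of the biextension are triples. -/
theorem existsUnique_elt (T : C) (p : P.obj.obj (op T)) (q : Q.obj.obj (op T)) (v : D.I.obj.obj (op T))
    (hv : D.π.hom.app (op T) v = c D T p q) :
    ∃! x : D.B.E.obj.obj (op T), D.B.πP T x = p ∧ D.B.πQ T x = q ∧ D.ψ T x = v := by
  have uniq : ∀ (T : C) (x y : D.B.E.obj.obj (op T)), D.B.πP T x = D.B.πP T y → D.B.πQ T x = D.B.πQ T y →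
      D.ψ T x = D.ψ T y → x = y := fun T x y hp hq hψ => by
    obtain ⟨g, rfl, -⟩ := D.B.existsUnique_act T x y hp hq
    rw [D.ψ_act, eq_comm, add_eq_right] at hψ
    rw [show g = 0 from D.inj T (hψ.trans (map_zero _).symm), D.B.zero_act]
  obtain ⟨R, hR, k⟩ := D.B.locallySurjective T p q
  obtain ⟨x, hx⟩ := glue' D.B.E
    (fun T' f x => D.B.πP T' x = P.obj.map f.op p ∧ D.B.πQ T' x = Q.obj.map f.op q ∧ D.ψ T' x = D.I.obj.map f.op v)
    (fun T' T'' f g x ⟨h1, h2, h3⟩ => ⟨by rw [D.B.πP_map, h1, map_map P.obj f g],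
      by rw [D.B.πQ_map, h2, map_map Q.obj f g], by rw [D.ψ_map, h3, map_map D.I.obj f g]⟩)
    (fun T' f x y hx hy => uniq T' x y (hx.1.trans hy.1.symm) (hx.2.1.trans hy.2.1.symm) (hx.2.2.trans hy.2.2.symm))
    hR (fun T' f hf => by
      obtain ⟨x, hp, hq⟩ := k f hf
      obtain ⟨g, hg⟩ := D.exact T' (D.I.obj.map f.op v - D.ψ T' x) (by
        rw [map_sub, app_map, hv, c_map, ← hp, ← hq, c_eq, sub_self])
      exact ⟨D.B.act T' g x, (D.B.πP_act _ _ _).trans hp, (D.B.πQ_act _ _ _).trans hq,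
        by rw [D.ψ_act, hg, sub_add_cancel]⟩)
  have e1 : D.B.πP T x = p := ext_of_local P hR fun T' f hf => by rw [← D.B.πP_map, (hx f hf).1]
  have e2 : D.B.πQ T x = q := ext_of_local Q hR fun T' f hf => by rw [← D.B.πQ_map, (hx f hf).2.1]
  have e3 : D.ψ T x = v := ext_of_local D.I hR fun T' f hf => by rw [← D.ψ_map, (hx f hf).2.2]
  exact ⟨x, ⟨e1, e2, e3⟩, fun y hy => uniq T y x (hy.1.trans e1.symm) (hy.2.1.trans e2.symm) (hy.2.2.trans e3.symm)⟩

/-- The defect of additivity in the first variable. -/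
def IsD (T : C) (p p' : P.obj.obj (op T)) (q : Q.obj.obj (op T)) (v : D.I.obj.obj (op T)) : Prop :=
  ∀ ⦃T' : C⦄ (f : T' ⟶ T) (x z : D.B.E.obj.obj (op T')) (h : D.B.πQ T' x = D.B.πQ T' z),
    D.B.πP T' x = P.obj.map f.op p → D.B.πP T' z = P.obj.map f.op p' → D.B.πQ T' x = Q.obj.map f.op q →
    D.I.obj.map f.op v = D.ψ T' (D.B.add₁ T' x z h) - D.ψ T' x - D.ψ T' z

theorem ψ_defect_congr {T : C} {x z x' z' : D.B.E.obj.obj (op T)} (h : D.B.πQ T x = D.B.πQ T z)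
    (h' : D.B.πQ T x' = D.B.πQ T z') (hx : D.B.πP T x = D.B.πP T x') (hz : D.B.πP T z = D.B.πP T z')
    (hq : D.B.πQ T x = D.B.πQ T x') :
    D.ψ T (D.B.add₁ T x z h) - D.ψ T x - D.ψ T z = D.ψ T (D.B.add₁ T x' z' h') - D.ψ T x' - D.ψ T z' := by
  obtain ⟨g, rfl, -⟩ := D.B.existsUnique_act T x x' hx hq
  obtain ⟨g', rfl, -⟩ := D.B.existsUnique_act T z z' hz (h.symm.trans (hq.trans h'))
  rw [show D.B.add₁ T (D.B.act T g x) (D.B.act T g' z) h' = D.B.act T (g + g') (D.B.add₁ T x z h) from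
    add₁_act_act D.B g g' x z h, D.ψ_act, D.ψ_act, D.ψ_act, map_add]
  abel

theorem exists_lift₁ (T : C) (p p' : P.obj.obj (op T)) (q : Q.obj.obj (op T)) :
    ∃ R ∈ J T, ∀ ⦃T' : C⦄ (f : T' ⟶ T), R f → ∃ x z : D.B.E.obj.obj (op T'),
      D.B.πP T' x = P.obj.map f.op p ∧ D.B.πP T' z = P.obj.map f.op p' ∧
      D.B.πQ T' x = Q.obj.map f.op q ∧ D.B.πQ T' z = Q.obj.map f.op q := by
  obtain ⟨R₁, h₁, k₁⟩ := D.B.locallySurjective T p q
  obtain ⟨R₂, h₂, k₂⟩ := D.B.locallySurjective T p' q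
  refine ⟨R₁ ⊓ R₂, J.intersection_covering h₁ h₂, fun T' f hf => ?_⟩
  obtain ⟨x, hx, hx'⟩ := k₁ f hf.1
  obtain ⟨y, hy, hy'⟩ := k₂ f hf.2
  exact ⟨x, y, hx, hy, hx', hy'⟩

theorem exists_isD (T : C) (p p' : P.obj.obj (op T)) (q : Q.obj.obj (op T)) : ∃! v, IsD D T p p' q v := by
  obtain ⟨R, hR, hloc⟩ := exists_lift₁ D T p p' q
  obtain ⟨v, hv⟩ := glue D.I
    (fun T' f v => ∃ (x z : D.B.E.obj.obj (op T')) (h : D.B.πQ T' x = D.B.πQ T' z),
      D.B.πP T' x = P.obj.map f.op p ∧ D.B.πP T' z = P.obj.map f.op p' ∧ D.B.πQ T' x = Q.obj.map f.op q ∧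
      v = D.ψ T' (D.B.add₁ T' x z h) - D.ψ T' x - D.ψ T' z)
    (fun T' T'' f g v ⟨x, z, h, h1, h2, h3, hv⟩ =>
      ⟨D.B.E.obj.map g.op x, D.B.E.obj.map g.op z, by rw [D.B.πQ_map, D.B.πQ_map, h],
        by rw [D.B.πP_map, h1, map_map P.obj f g], by rw [D.B.πP_map, h2, map_map P.obj f g],
        by rw [D.B.πQ_map, h3, map_map Q.obj f g],
        by rw [hv, map_sub, map_sub, ← D.ψ_map, ← D.ψ_map, ← D.ψ_map, D.B.add₁_map]⟩)
    (fun T' f v w ⟨x, z, h, h1, h2, h3, hv⟩ ⟨x', z', h', h1', h2', h3', hw⟩ => by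
      rw [hv, hw]
      exact ψ_defect_congr D h h' (h1.trans h1'.symm) (h2.trans h2'.symm) (h3.trans h3'.symm)) hR
    (fun T' f hf => by
      obtain ⟨x, z, h1, h2, h3, h4⟩ := hloc f hf
      exact ⟨_, x, z, h3.trans h4.symm, h1, h2, h3, rfl⟩)
  refine ⟨v, fun T' f x z h h1 h2 h3 => ?_, fun w hw => ext_of_local D.I hR fun T' f hf => ?_⟩
  · refine ext_of_local D.I (J.pullback_stable f hR) fun T'' g hg => ?_
    obtain ⟨x', z', h', h1', h2', h3', e⟩ := hv (g ≫ f) hg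
    rw [← map_map D.I.obj f g v, e, map_sub, map_sub, ← D.ψ_map, ← D.ψ_map, ← D.ψ_map, D.B.add₁_map]
    refine ψ_defect_congr D h' _ ?_ ?_ ?_
    · rw [h1', D.B.πP_map, h1, map_map P.obj f g]
    · rw [h2', D.B.πP_map, h2, map_map P.obj f g]
    · rw [h3', D.B.πQ_map, h3, map_map Q.obj f g]
  · obtain ⟨x, z, h, h1, h2, h3, e⟩ := hv f hf
    rw [e, hw f x z h h1 h2 h3]

/-- The defect. -/
noncomputable def d (T : C) (p p' : P.obj.obj (op T)) (q : Q.obj.obj (op T)) : D.I.obj.obj (op T) :=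
  (exists_isD D T p p' q).choose

theorem d_spec (T : C) (p p' : P.obj.obj (op T)) (q : Q.obj.obj (op T)) : IsD D T p p' q (d D T p p' q) :=
  (exists_isD D T p p' q).choose_spec.1

theorem d_eq {T : C} (x z : D.B.E.obj.obj (op T)) (h : D.B.πQ T x = D.B.πQ T z) :
    d D T (D.B.πP T x) (D.B.πP T z) (D.B.πQ T x) = D.ψ T (D.B.add₁ T x z h) - D.ψ T x - D.ψ T z := by
  have e := d_spec D T (D.B.πP T x) (D.B.πP T z) (D.B.πQ T x) (𝟙 T) x z h (map_id P.obj _).symm (map_id P.obj _).symm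
    (map_id Q.obj _).symm
  rwa [map_id D.I.obj] at e

theorem d_map {T T' : C} (f : T' ⟶ T) (p p' : P.obj.obj (op T)) (q : Q.obj.obj (op T)) :
    D.I.obj.map f.op (d D T p p' q) = d D T' (P.obj.map f.op p) (P.obj.map f.op p') (Q.obj.map f.op q) := by
  refine (exists_isD D T' _ _ _).choose_spec.2 _ fun T'' g x z h h1 h2 h3 => ?_
  refine (map_map D.I.obj f g _).symm.trans (d_spec D T p p' q (g ≫ f) x z h ?_ ?_ ?_)
  · rw [h1, map_map P.obj f g]
  · rw [h2, map_map P.obj f g]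
  · rw [h3, map_map Q.obj f g]

theorem d_add (T : C) (p p' : P.obj.obj (op T)) (q q' : Q.obj.obj (op T)) :
    d D T p p' (q + q') = d D T p p' q + d D T p p' q' := by
  obtain ⟨R₁, hR₁, k₁⟩ := exists_lift₁ D T p p' q
  obtain ⟨R₂, hR₂, k₂⟩ := exists_lift₁ D T p p' q'
  refine ext_of_local D.I (J.intersection_covering hR₁ hR₂) fun T' f hf => ?_
  obtain ⟨x, z, hx, hz, hxq, hzq⟩ := k₁ f hf.1
  obtain ⟨y, t, hy, ht, hyq, htq⟩ := k₂ f hf.2
  have hxy : D.B.πP T' x = D.B.πP T' y := hx.trans hy.symm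
  have hzt : D.B.πP T' z = D.B.πP T' t := hz.trans ht.symm
  have hxz : D.B.πQ T' x = D.B.πQ T' z := hxq.trans hzq.symm
  have hyt : D.B.πQ T' y = D.B.πQ T' t := hyq.trans htq.symm
  rw [map_add, d_map, d_map, d_map, map_add, ← hxq, ← hyq]
  have e1 := d_eq D (D.B.add₂ T' x y hxy) (D.B.add₂ T' z t hzt)
    ((D.B.πQ_add₂ T' x y hxy).trans ((congrArg₂ (· + ·) hxz hyt).trans (D.B.πQ_add₂ T' z t hzt).symm))
  conv at e1 => lhs; rw [D.B.πP_add₂, D.B.πP_add₂, D.B.πQ_add₂, hx, hz]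
  rw [D.B.compat T' x y z t hxy hzt hxz hyt, D.ψ_add₂, D.ψ_add₂, D.ψ_add₂] at e1
  have e2 := d_eq D x z hxz
  have e3 := d_eq D y t hyt
  rw [hx, hz] at e2
  rw [hy, ht] at e3
  rw [e1, e2, e3]
  abel

theorem π_d (T : C) (p p' : P.obj.obj (op T)) (q : Q.obj.obj (op T)) :
    D.π.hom.app (op T) (d D T p p' q) = c D T (p + p') q - c D T p q - c D T p' q := by
  obtain ⟨R, hR, k⟩ := exists_lift₁ D T p p' q
  refine ext_of_local D.N hR fun T' f hf => ?_
  obtain ⟨x, z, hx, hz, hxq, hzq⟩ := k f hf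
  have h : D.B.πQ T' x = D.B.πQ T' z := hxq.trans hzq.symm
  have e := d_eq D x z h
  rw [hx, hz, hxq] at e
  rw [← app_map, d_map, e, map_sub, map_sub, map_sub, map_sub,
    ← c_eq, ← c_eq, ← c_eq, D.B.πP_add₁, D.B.πQ_add₁, c_map, c_map, c_map, map_add, hx, hz, hxq, hzq]

/-- The morphism attached to the defect. -/
noncomputable def dT {T : C} (p p' : P.obj.obj (op T)) : (HomSh.homSh J Q D.I).obj.obj (op T) :=
  mkHom (fun U => AddMonoidHom.mk' (fun q => d D U.left (P.obj.map U.hom.op p) (P.obj.map U.hom.op p') q)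
      (d_add D U.left _ _))
    fun U V g q => by
      show d D V.left _ _ _ = D.I.obj.map g.left.op (d D U.left _ _ q)
      rw [d_map, ← map_map P.obj U.hom g.left, ← map_map P.obj U.hom g.left, Over.w g]

theorem cT_add {T : C} (p p' : P.obj.obj (op T)) :
    cT D (p + p') = cT D p + cT D p' + (HomSh.homShMap J (𝟙 Q) D.π).hom.app (op T) (dT D p p') :=
  hom_ext fun U q => by
    rw [ap_add', ap_add', ap_homShMap, cT_app, cT_app, cT_app, map_add,
      show ap (dT D p p') U q = d D U.left (P.obj.map U.hom.op p) (P.obj.map U.hom.op p') q from rfl, π_d]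
    abel

end Groth.Agent.AbSchX.BiextClass
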