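import Groth.Prelude.Def_Biext
import Mathlib.CategoryTheory.Sites.LocallySurjective
import Mathlib.CategoryTheory.Sites.IsSheafFor
import Mathlib.Algebra.Category.Grp.Preadditive

/-! A biextension of divisible sheaves whose inverse image by `(n, m)` is trivial is trivial. -/

universe u

open CategoryTheory Opposite

namespace Groth.Agent.AbSchX.BiextDiv

variable {C : Type (u + 1)} [Category.{u} C] {J : GrothendieckTopology C}

theorem app_zsmul_id (P : Sheaf J AddCommGrpCat.{u + 1}) (n : ℤ) (T : C) (x : P.obj.obj (op T)) :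
    (n • 𝟙 P : P ⟶ P).hom.app (op T) x = n • x := by
  let ev : (P ⟶ P) →+ P.obj.obj (op T) :=
    AddMonoidHom.mk' (fun φ => φ.hom.app (op T) x) fun φ ψ => rfl
  exact map_zsmul ev n (𝟙 P)

variable {P Q G : Sheaf J AddCommGrpCat.{u + 1}}

theorem act_inj (B : Biext J P Q G) {T : C} {g g' : G.obj.obj (op T)} {x : B.E.obj.obj (op T)}
    (h : B.act T g x = B.act T g' x) : g = g' :=
  (B.existsUnique_act T x (B.act T g' x) (B.πP_act T g' x).symm (B.πQ_act T g' x).symm).unique h rfl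

theorem add₁_congr (B : Biext J P Q G) {T : C} {x x' z z' : B.E.obj.obj (op T)} {h : B.πQ T x = B.πQ T z}
    {h' : B.πQ T x' = B.πQ T z'} (hx : x = x') (hz : z = z') : B.add₁ T x z h = B.add₁ T x' z' h' := by
  subst hx hz; rfl

theorem add₂_congr (B : Biext J P Q G) {T : C} {x x' z z' : B.E.obj.obj (op T)} {h : B.πP T x = B.πP T z}
    {h' : B.πP T x' = B.πP T z'} (hx : x = x') (hz : z = z') : B.add₂ T x z h = B.add₂ T x' z' h' := by
  subst hx hz; rfl

theorem add₁_act_act (B : Biext J P Q G) {T : C} (g g' : G.obj.obj (op T)) (x z : B.E.obj.obj (op T))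
    (h : B.πQ T x = B.πQ T z) :
    B.add₁ T (B.act T g x) (B.act T g' z) ((B.πQ_act T g x).trans (h.trans (B.πQ_act T g' z).symm)) =
      B.act T (g + g') (B.add₁ T x z h) := by
  rw [B.add₁_act T g x (B.act T g' z) (h.trans (B.πQ_act T g' z).symm),
    B.add₁_comm T x (B.act T g' z) (h.trans (B.πQ_act T g' z).symm), B.add₁_act T g' z x h.symm,
    B.add₁_comm T z x h.symm, ← B.add_act]

theorem add₂_act_act (B : Biext J P Q G) {T : C} (g g' : G.obj.obj (op T)) (x z : B.E.obj.obj (op T))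
    (h : B.πP T x = B.πP T z) :
    B.add₂ T (B.act T g x) (B.act T g' z) ((B.πP_act T g x).trans (h.trans (B.πP_act T g' z).symm)) =
      B.act T (g + g') (B.add₂ T x z h) := by
  rw [B.add₂_act T g x (B.act T g' z) (h.trans (B.πP_act T g' z).symm),
    B.add₂_comm T x (B.act T g' z) (h.trans (B.πP_act T g' z).symm), B.add₂_act T g' z x h.symm,
    B.add₂_comm T z x h.symm, ← B.add_act]

/-- A natural family `f` with the properties of `(p, q) ↦ φ (σ' (p, q))` descends to a splitting. -/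
theorem isTrivial_of_family (B : Biext J P Q G) (n m : ℤ)
    (hP : ∀ k : ℤ, k = m → ∀ (T : C) (x : P.obj.obj (op T)), ∃ R ∈ J T, ∀ ⦃T' : C⦄ (f : T' ⟶ T), R f →
      ∃ y, k • y = P.obj.map f.op x)
    (hP' : ∀ (T : C) (x : P.obj.obj (op T)), ∃ R ∈ J T, ∀ ⦃T' : C⦄ (f : T' ⟶ T), R f →
      ∃ y, n • y = P.obj.map f.op x)
    (hQ : ∀ k : ℤ, k = n → ∀ (T : C) (x : Q.obj.obj (op T)), ∃ R ∈ J T, ∀ ⦃T' : C⦄ (f : T' ⟶ T), R f →
      ∃ y, k • y = Q.obj.map f.op x)
    (hQ' : ∀ (T : C) (x : Q.obj.obj (op T)), ∃ R ∈ J T, ∀ ⦃T' : C⦄ (f : T' ⟶ T), R f →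
      ∃ y, m • y = Q.obj.map f.op x)
    (F : ∀ T : C, P.obj.obj (op T) → Q.obj.obj (op T) → B.E.obj.obj (op T))
    (F_map : ∀ {T T' : C} (f : T' ⟶ T) (p : P.obj.obj (op T)) (q : Q.obj.obj (op T)),
      B.E.obj.map f.op (F T p q) = F T' (P.obj.map f.op p) (Q.obj.map f.op q))
    (πP_F : ∀ T p q, B.πP T (F T p q) = n • p) (πQ_F : ∀ T p q, B.πQ T (F T p q) = m • q)
    (F_add₁ : ∀ T p p' q, F T (p + p') q = B.add₁ T (F T p q) (F T p' q) ((πQ_F T p q).trans (πQ_F T p' q).symm))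
    (F_add₂ : ∀ T p q q', F T p (q + q') = B.add₂ T (F T p q) (F T p q') ((πP_F T p q).trans (πP_F T p q').symm)) :
    Biext.IsTrivial J B := by
  classical
  have hE : Presieve.IsSheaf J B.E.obj := (isSheaf_iff_isSheaf_of_type _ _).1 B.E.property
  have hG : Presieve.IsSheaf J (G.obj ⋙ forget AddCommGrpCat.{u + 1}) :=
    (isSheaf_iff_isSheaf_of_type _ _).1 ((sheafCompose J (forget AddCommGrpCat.{u + 1})).obj G).property
  -- independence of the `P`-lift
  have indP : ∀ (T : C) (p a : P.obj.obj (op T)) (q : Q.obj.obj (op T)), n • a = 0 →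
      F T (p + a) q = F T p q := by
    intro T p a q ha
    have hg : ∀ q, ∃! g, B.act T g (F T 0 q) = F T a q := fun q =>
      B.existsUnique_act T _ _ (by rw [πP_F, πP_F, ha, smul_zero]) (by rw [πQ_F, πQ_F])
    choose c hc hcu using hg
    have cadd : ∀ q q', c (q + q') = c q + c q' := fun q q' => by
      symm
      refine hcu _ _ ?_
      show B.act T (c q + c q') (F T 0 (q + q')) = F T a (q + q')
      rw [F_add₂ T 0 q q', F_add₂ T a q q', ← add₂_act_act B _ _ _ _ ((πP_F T 0 q).trans (πP_F T 0 q').symm)]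
      exact add₂_congr B (hc q) (hc q')
    -- naturality of the coefficient and its vanishing
    have hc0 : c q = 0 := by
      obtain ⟨R, hR, hRy⟩ := hQ n rfl T q
      refine (hG R hR).isSeparatedFor.ext fun T' f hf => ?_
      show G.obj.map f.op (c q) = G.obj.map f.op 0
      rw [map_zero]
      obtain ⟨y, hy⟩ := hRy f hf
      let a' := P.obj.map f.op a
      have ha' : n • a' = 0 := by rw [← map_zsmul, ha, map_zero]
      have hex : ∀ (b : P.obj.obj (op T')), n • b = 0 → ∀ z, ∃! g, B.act T' g (F T' 0 z) = F T' b z := fun b hb z =>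
        B.existsUnique_act T' _ _ (by rw [πP_F, πP_F, hb, smul_zero]) (by rw [πQ_F, πQ_F])
      have h1 : B.act T' (G.obj.map f.op (c q)) (F T' 0 (n • y)) = F T' a' (n • y) := by
        rw [hy, ← F_map, ← map_zero (P.obj.map f.op).hom, ← F_map, ← B.act_map]
        exact congrArg _ (hc q)
      let K : AddSubgroup (P.obj.obj (op T')) := (zsmulAddGroupHom n).ker
      let d : K → G.obj.obj (op T') := fun b => (hex b.1 b.2 y).choose
      have hd : ∀ b : K, B.act T' (d b) (F T' 0 y) = F T' b.1 y := fun b => (hex b.1 b.2 y).choose_spec.1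
      have dadd : ∀ b b', d (b + b') = d b + d b' := fun b b' => by
        symm
        refine (hex (b + b').1 (b + b').2 y).choose_spec.2 _ ?_
        show B.act T' (d b + d b') (F T' 0 y) = F T' (b.1 + b'.1) y
        conv_lhs => rw [← _root_.add_zero (0 : P.obj.obj (op T')), F_add₁]
        rw [← add₁_act_act B _ _ _ _ rfl, F_add₁]
        exact add₁_congr B (hd b) (hd b')
      let e : Q.obj.obj (op T') → G.obj.obj (op T') := fun z => (hex a' ha' z).choose
      have he : ∀ z, B.act T' (e z) (F T' 0 z) = F T' a' z := fun z => (hex a' ha' z).choose_spec.1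
      have eadd : ∀ z z', e (z + z') = e z + e z' := fun z z' => by
        symm
        refine (hex a' ha' (z + z')).choose_spec.2 _ ?_
        show B.act T' (e z + e z') (F T' 0 (z + z')) = F T' a' (z + z')
        rw [F_add₂ T' 0 z z', F_add₂ T' a' z z', ← add₂_act_act B _ _ _ _ ((πP_F T' 0 z).trans (πP_F T' 0 z').symm)]
        exact add₂_congr B (he z) (he z')
      have h2 : G.obj.map f.op (c q) = n • d ⟨a', ha'⟩ := by
        rw [show n • d ⟨a', ha'⟩ = n • e y from rfl]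
        refine Eq.trans ?_ (map_zsmul (AddMonoidHom.mk' e eadd) n y)
        exact act_inj B (h1.trans (he (n • y)).symm)
      rw [h2, show n • d ⟨a', ha'⟩ = d (n • ⟨a', ha'⟩) from (map_zsmul (AddMonoidHom.mk' d dadd) n _).symm,
        show (n • ⟨a', ha'⟩ : K) = 0 from Subtype.ext ha']
      exact map_zero (AddMonoidHom.mk' d dadd)
    have e0 : F T a q = F T 0 q := by rw [← hc q, hc0, B.zero_act]
    conv_rhs => rw [← _root_.add_zero p]
    rw [F_add₁, F_add₁]
    exact add₁_congr B rfl e0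
  -- independence of the `Q`-lift
  have indQ : ∀ (T : C) (p : P.obj.obj (op T)) (q b : Q.obj.obj (op T)), m • b = 0 →
      F T p (q + b) = F T p q := by
    intro T p q b hb
    have hg : ∀ p, ∃! g, B.act T g (F T p 0) = F T p b := fun p =>
      B.existsUnique_act T _ _ (by rw [πP_F, πP_F]) (by rw [πQ_F, πQ_F, hb, smul_zero])
    choose c hc hcu using hg
    have hc0 : c p = 0 := by
      obtain ⟨R, hR, hRy⟩ := hP m rfl T p
      refine (hG R hR).isSeparatedFor.ext fun T' f hf => ?_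
      show G.obj.map f.op (c p) = G.obj.map f.op 0
      rw [map_zero]
      obtain ⟨y, hy⟩ := hRy f hf
      let b' := Q.obj.map f.op b
      have hb' : m • b' = 0 := by rw [← map_zsmul, hb, map_zero]
      have hex : ∀ (b : Q.obj.obj (op T')), m • b = 0 → ∀ z, ∃! g, B.act T' g (F T' z 0) = F T' z b := fun b hb z =>
        B.existsUnique_act T' _ _ (by rw [πP_F, πP_F]) (by rw [πQ_F, πQ_F, hb, smul_zero])
      have h1 : B.act T' (G.obj.map f.op (c p)) (F T' (m • y) 0) = F T' (m • y) b' := by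
        rw [hy, ← F_map, ← map_zero (Q.obj.map f.op).hom, ← F_map, ← B.act_map]
        exact congrArg _ (hc p)
      let K : AddSubgroup (Q.obj.obj (op T')) := (zsmulAddGroupHom m).ker
      let d : K → G.obj.obj (op T') := fun b => (hex b.1 b.2 y).choose
      have hd : ∀ b : K, B.act T' (d b) (F T' y 0) = F T' y b.1 := fun b => (hex b.1 b.2 y).choose_spec.1
      have dadd : ∀ b b', d (b + b') = d b + d b' := fun b b' => by
        symm
        refine (hex (b + b').1 (b + b').2 y).choose_spec.2 _ ?_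
        show B.act T' (d b + d b') (F T' y 0) = F T' y (b.1 + b'.1)
        conv_lhs => rw [← _root_.add_zero (0 : Q.obj.obj (op T')), F_add₂]
        rw [← add₂_act_act B _ _ _ _ rfl, F_add₂]
        exact add₂_congr B (hd b) (hd b')
      let e : P.obj.obj (op T') → G.obj.obj (op T') := fun z => (hex b' hb' z).choose
      have he : ∀ z, B.act T' (e z) (F T' z 0) = F T' z b' := fun z => (hex b' hb' z).choose_spec.1
      have eadd : ∀ z z', e (z + z') = e z + e z' := fun z z' => by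
        symm
        refine (hex b' hb' (z + z')).choose_spec.2 _ ?_
        show B.act T' (e z + e z') (F T' (z + z') 0) = F T' (z + z') b'
        rw [F_add₁ T' z z' 0, F_add₁ T' z z' b', ← add₁_act_act B _ _ _ _ ((πQ_F T' z 0).trans (πQ_F T' z' 0).symm)]
        exact add₁_congr B (he z) (he z')
      have h2 : G.obj.map f.op (c p) = m • d ⟨b', hb'⟩ := by
        rw [show m • d ⟨b', hb'⟩ = m • e y from rfl]
        refine Eq.trans ?_ (map_zsmul (AddMonoidHom.mk' e eadd) m y)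
        exact act_inj B (h1.trans (he (m • y)).symm)
      rw [h2, show m • d ⟨b', hb'⟩ = d (m • ⟨b', hb'⟩) from (map_zsmul (AddMonoidHom.mk' d dadd) m _).symm,
        show (m • ⟨b', hb'⟩ : K) = 0 from Subtype.ext hb']
      exact map_zero (AddMonoidHom.mk' d dadd)
    have e0 : F T p b = F T p 0 := by rw [← hc p, hc0, B.zero_act]
    conv_rhs => rw [← _root_.add_zero q]
    rw [F_add₂, F_add₂]
    exact add₂_congr B rfl e0
  have ind : ∀ (T : C) (p p' : P.obj.obj (op T)) (q q' : Q.obj.obj (op T)), n • p = n • p' → m • q = m • q' →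
      F T p q = F T p' q' := by
    intro T p p' q q' hp hq
    rw [show p = p' + (p - p') by abel, indP T p' (p - p') q (by rw [zsmul_sub, hp, sub_self]),
      show q = q' + (q - q') by abel, indQ T p' q' (q - q') (by rw [zsmul_sub, hq, sub_self])]
  -- the descended section
  let Good : ∀ T : C, P.obj.obj (op T) → Q.obj.obj (op T) → B.E.obj.obj (op T) → Prop := fun T p q y =>
    ∀ ⦃T' : C⦄ (f : T' ⟶ T) p' q', n • p' = P.obj.map f.op p → m • q' = Q.obj.map f.op q →
      B.E.obj.map f.op y = F T' p' q'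
  have lifts : ∀ (T : C) (p : P.obj.obj (op T)) (q : Q.obj.obj (op T)), ∃ R ∈ J T, ∀ ⦃T' : C⦄ (f : T' ⟶ T), R f →
      ∃ p' q', n • p' = P.obj.map f.op p ∧ m • q' = Q.obj.map f.op q := by
    intro T p q
    obtain ⟨R₁, h₁, k₁⟩ := hP' T p
    obtain ⟨R₂, h₂, k₂⟩ := hQ' T q
    refine ⟨R₁ ⊓ R₂, J.intersection_covering h₁ h₂, fun T' f hf => ?_⟩
    obtain ⟨p', hp'⟩ := k₁ f hf.1
    obtain ⟨q', hq'⟩ := k₂ f hf.2
    exact ⟨p', q', hp', hq'⟩
  have map2 : ∀ {T T' T'' : C} (f : T' ⟶ T) (g : T'' ⟶ T') (x : B.E.obj.obj (op T)),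
      B.E.obj.map (g ≫ f).op x = B.E.obj.map g.op (B.E.obj.map f.op x) := fun f g x => by
    rw [op_comp, Functor.map_comp]; rfl
  have map2P : ∀ {T T' T'' : C} (f : T' ⟶ T) (g : T'' ⟶ T') (x : P.obj.obj (op T)),
      P.obj.map (g ≫ f).op x = P.obj.map g.op (P.obj.map f.op x) := fun f g x => by
    rw [op_comp, Functor.map_comp]; rfl
  have map2Q : ∀ {T T' T'' : C} (f : T' ⟶ T) (g : T'' ⟶ T') (x : Q.obj.obj (op T)),
      Q.obj.map (g ≫ f).op x = Q.obj.map g.op (Q.obj.map f.op x) := fun f g x => by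
    rw [op_comp, Functor.map_comp]; rfl
  have good_exists : ∀ T p q, ∃ y, Good T p q y := by
    intro T p q
    obtain ⟨R, hR, k⟩ := lifts T p q
    choose lp lq hlp hlq using k
    let x : Presieve.FamilyOfElements B.E.obj R.arrows := fun T' f hf => F T' (lp f hf) (lq f hf)
    have hx : x.Compatible := by
      intro Y₁ Y₂ Z g₁ g₂ f₁ f₂ h₁ h₂ e
      show B.E.obj.map g₁.op (F Y₁ _ _) = B.E.obj.map g₂.op (F Y₂ _ _)
      rw [F_map, F_map]
      refine ind Z _ _ _ _ ?_ ?_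
      · rw [← map_zsmul, ← map_zsmul, hlp, hlp, ← map2P, ← map2P, e]
      · rw [← map_zsmul, ← map_zsmul, hlq, hlq, ← map2Q, ← map2Q, e]
    refine ⟨(hE R hR).amalgamate x hx, fun T' f p' q' hp hq => ?_⟩
    have hR' : R.pullback f ∈ J T' := J.pullback_stable f hR
    refine (hE _ hR').isSeparatedFor.ext fun T'' g hg => ?_
    have hg' : R (g ≫ f) := hg
    rw [← map2, (hE R hR).valid_glue hx (g ≫ f) hg', F_map]
    refine ind T'' _ _ _ _ ?_ ?_
    · rw [hlp, ← map_zsmul, hp, map2P]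
    · rw [hlq, ← map_zsmul, hq, map2Q]
  have good_unique : ∀ T p q y y', Good T p q y → Good T p q y' → y = y' := by
    intro T p q y y' h h'
    obtain ⟨R, hR, k⟩ := lifts T p q
    refine (hE R hR).isSeparatedFor.ext fun T' f hf => ?_
    obtain ⟨p', q', hp, hq⟩ := k f hf
    rw [h f p' q' hp hq, h' f p' q' hp hq]
  choose σ hσ using good_exists
  have σP : ∀ T p q, B.πP T (σ T p q) = p := by
    intro T p q
    obtain ⟨R, hR, k⟩ := lifts T p q
    have hPs : Presieve.IsSheaf J (P.obj ⋙ forget AddCommGrpCat.{u + 1}) :=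
      (isSheaf_iff_isSheaf_of_type _ _).1 ((sheafCompose J (forget AddCommGrpCat.{u + 1})).obj P).property
    refine (hPs R hR).isSeparatedFor.ext fun T' f hf => ?_
    obtain ⟨p', q', hp, hq⟩ := k f hf
    show P.obj.map f.op (B.πP T (σ T p q)) = P.obj.map f.op p
    rw [← B.πP_map, hσ T p q f p' q' hp hq, πP_F, hp]
  have σQ : ∀ T p q, B.πQ T (σ T p q) = q := by
    intro T p q
    obtain ⟨R, hR, k⟩ := lifts T p q
    have hQs : Presieve.IsSheaf J (Q.obj ⋙ forget AddCommGrpCat.{u + 1}) :=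
      (isSheaf_iff_isSheaf_of_type _ _).1 ((sheafCompose J (forget AddCommGrpCat.{u + 1})).obj Q).property
    refine (hQs R hR).isSeparatedFor.ext fun T' f hf => ?_
    obtain ⟨p', q', hp, hq⟩ := k f hf
    show Q.obj.map f.op (B.πQ T (σ T p q)) = Q.obj.map f.op q
    rw [← B.πQ_map, hσ T p q f p' q' hp hq, πQ_F, hq]
  refine ⟨⟨σ, σP, σQ, fun {T T'} f p q => good_unique _ _ _ _ _ (fun T'' g p' q' hp hq => ?_) (hσ _ _ _),
    fun T p p' q => ?_, fun T p q q' => ?_⟩⟩
  · rw [← map2, hσ T p q (g ≫ f) p' q' (by rw [map2P, hp]) (by rw [map2Q, hq])]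
  · refine good_unique T _ _ _ _ (hσ _ _ _) (fun T' f r r' hr hr' => ?_)
    obtain ⟨R, hR, k⟩ := lifts T' (P.obj.map f.op p) (Q.obj.map f.op q)
    refine (hE R hR).isSeparatedFor.ext fun T'' g hg => ?_
    obtain ⟨a, b, ha, hb⟩ := k g hg
    obtain ⟨R', hR', k'⟩ := hP' T'' (P.obj.map (g ≫ f).op p')
    refine (hE R' hR').isSeparatedFor.ext fun T₃ g' hg' => ?_
    obtain ⟨a', ha'⟩ := k' g' hg'
    rw [← map2, ← map2, ← map2, B.add₁_map, F_map]
    have e₁ := hσ T p q ((g' ≫ g) ≫ f) (P.obj.map g'.op a) (Q.obj.map g'.op b)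
      (by rw [map2P, map2P, ← map_zsmul, ha]) (by rw [map2Q, map2Q, ← map_zsmul, hb])
    have e₂ := hσ T p' q ((g' ≫ g) ≫ f) a' (Q.obj.map g'.op b)
      (by rw [Category.assoc, map2P, ha']) (by rw [map2Q, map2Q, ← map_zsmul, hb])
    rw [add₁_congr B e₁ e₂ (h' := (πQ_F _ _ _).trans (πQ_F _ _ _).symm), ← F_add₁]
    refine ind _ _ _ _ _ ?_ ?_
    · rw [zsmul_add, ← map_zsmul, ha, ha', ← map2P, ← map2P, ← map_zsmul, hr, Category.assoc, ← map2P, ← map_add, ← map2P, Category.assoc]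
    · rw [← map_zsmul, hb, ← map2Q, ← map_zsmul, hr', ← map2Q]
  · refine good_unique T _ _ _ _ (hσ _ _ _) (fun T' f r r' hr hr' => ?_)
    obtain ⟨R, hR, k⟩ := lifts T' (P.obj.map f.op p) (Q.obj.map f.op q)
    refine (hE R hR).isSeparatedFor.ext fun T'' g hg => ?_
    obtain ⟨a, b, ha, hb⟩ := k g hg
    obtain ⟨R', hR', k'⟩ := hQ' T'' (Q.obj.map (g ≫ f).op q')
    refine (hE R' hR').isSeparatedFor.ext fun T₃ g' hg' => ?_
    obtain ⟨b', hb'⟩ := k' g' hg'
    rw [← map2, ← map2, ← map2, B.add₂_map, F_map]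
    have e₁ := hσ T p q ((g' ≫ g) ≫ f) (P.obj.map g'.op a) (Q.obj.map g'.op b)
      (by rw [map2P, map2P, ← map_zsmul, ha]) (by rw [map2Q, map2Q, ← map_zsmul, hb])
    have e₂ := hσ T p q' ((g' ≫ g) ≫ f) (P.obj.map g'.op a) b'
      (by rw [map2P, map2P, ← map_zsmul, ha]) (by rw [Category.assoc, map2Q, hb'])
    rw [add₂_congr B e₁ e₂ (h' := (πP_F _ _ _).trans (πP_F _ _ _).symm), ← F_add₂]
    refine ind _ _ _ _ _ ?_ ?_
    · rw [← map_zsmul, ha, ← map2P, ← map_zsmul, hr, ← map2P]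
    · rw [zsmul_add, ← map_zsmul, hb, hb', ← map2Q, ← map2Q, ← map_zsmul, hr', Category.assoc, ← map2Q, ← map_add, ← map2Q, Category.assoc]

theorem exists_div [HasWeakSheafify J AddCommGrpCat.{u + 1}] (P : Sheaf J AddCommGrpCat.{u + 1}) (k : ℤ)
    [Sheaf.IsLocallySurjective (k • 𝟙 P)] (T : C) (x : P.obj.obj (op T)) :
    ∃ R ∈ J T, ∀ ⦃T' : C⦄ (f : T' ⟶ T), R f → ∃ y, k • y = P.obj.map f.op x := by
  refine ⟨_, Presheaf.imageSieve_mem J (k • 𝟙 P : P ⟶ P).hom x, fun T' f hf => ?_⟩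
  obtain ⟨y, hy⟩ := hf
  exact ⟨y, (app_zsmul_id P k T' y).symm.trans hy⟩

/-- The splitting of the inverse image gives the family. -/
theorem isTrivial (n m : ℤ) (B B' : Biext J P Q G)
    (φ : Biext.HomOver J (n • 𝟙 P) (m • 𝟙 Q) (𝟙 G) B' B) (hB' : Biext.IsTrivial J B')
    (hP : ∀ k : ℤ, (k = n ∨ k = m) → ∀ (T : C) (x : P.obj.obj (op T)), ∃ R ∈ J T, ∀ ⦃T' : C⦄ (f : T' ⟶ T), R f →
      ∃ y, k • y = P.obj.map f.op x)
    (hQ : ∀ k : ℤ, (k = n ∨ k = m) → ∀ (T : C) (x : Q.obj.obj (op T)), ∃ R ∈ J T, ∀ ⦃T' : C⦄ (f : T' ⟶ T), R f →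
      ∃ y, k • y = Q.obj.map f.op x) :
    Biext.IsTrivial J B := by
  obtain ⟨s⟩ := hB'
  refine isTrivial_of_family B n m (fun k hk => hP k (Or.inr hk)) (hP n (Or.inl rfl))
    (fun k hk => hQ k (Or.inl hk)) (hQ m (Or.inr rfl)) (fun T p q => φ.map T (s.σ T p q))
    (fun f p q => by rw [← φ.map_res, s.σ_map]) (fun T p q => by rw [φ.πP_map, s.πP_σ, app_zsmul_id])
    (fun T p q => by rw [φ.πQ_map, s.πQ_σ, app_zsmul_id]) (fun T p p' q => ?_) (fun T p q q' => ?_)
  · rw [← φ.map_add₁ T _ _ ((s.πQ_σ T p q).trans (s.πQ_σ T p' q).symm), s.σ_add₁]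
  · rw [← φ.map_add₂ T _ _ ((s.πP_σ T p q).trans (s.πP_σ T p q').symm), s.σ_add₂]

end Groth.Agent.AbSchX.BiextDiv
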