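import Groth.Prelude.Def_CGrpSh2
import Mathlib.CategoryTheory.Sites.EpiMono
import Mathlib.CategoryTheory.Sites.Abelian
import Mathlib.CategoryTheory.Limits.FunctorCategory.Finite
import Mathlib.CategoryTheory.Limits.Preserves.Finite
import Mathlib.Algebra.Category.Grp.Abelian
import Mathlib.Algebra.Homology.ShortComplex.ExactFunctor
import Mathlib.Algebra.Homology.ShortComplex.Ab
import Mathlib.CategoryTheory.Preadditive.Yoneda.Limits

/-! Sections of abelian sheaves: local calculus, exactness, left exactness of the internal Hom. -/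

universe u

open CategoryTheory CategoryTheory.Limits Opposite

namespace Groth.Agent.AbSchX.SheafSect

variable {C : Type (u + 1)} [Category.{u} C] {J : GrothendieckTopology C}

theorem map_map {A : Type*} [Category A] {FA : A → A → Type*} {CA : A → Type (u + 1)}
    [∀ X Y, FunLike (FA X Y) (CA X) (CA Y)] [ConcreteCategory A FA]
    (F : Cᵒᵖ ⥤ A) {T T' T'' : C} (f : T' ⟶ T) (g : T'' ⟶ T') (x : CA (F.obj (op T))) :
    F.map (g ≫ f).op x = F.map g.op (F.map f.op x) := by
  rw [op_comp, Functor.map_comp, ConcreteCategory.comp_apply]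

theorem map_id {A : Type*} [Category A] {FA : A → A → Type*} {CA : A → Type (u + 1)}
    [∀ X Y, FunLike (FA X Y) (CA X) (CA Y)] [ConcreteCategory A FA]
    (F : Cᵒᵖ ⥤ A) {T : C} (x : CA (F.obj (op T))) : F.map (𝟙 T).op x = x := by
  rw [op_id, F.map_id, ConcreteCategory.id_apply]

theorem app_map {F F' : Sheaf J AddCommGrpCat.{u + 1}} (φ : F ⟶ F') {T T' : C} (f : T' ⟶ T)
    (x : F.obj.obj (op T)) : φ.hom.app (op T') (F.obj.map f.op x) = F'.obj.map f.op (φ.hom.app (op T) x) :=
  NatTrans.naturality_apply φ.hom f.op x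

/-- The underlying presheaf of sets is a sheaf. -/
theorem isSheaf_forget (F : Sheaf J AddCommGrpCat.{u + 1}) :
    Presieve.IsSheaf J (F.obj ⋙ forget AddCommGrpCat.{u + 1}) :=
  (isSheaf_iff_isSheaf_of_type _ _).1 ((sheafCompose J (forget AddCommGrpCat.{u + 1})).obj F).property

/-- Separation. -/
theorem ext_of_local (F : Sheaf J AddCommGrpCat.{u + 1}) {T : C} {x y : F.obj.obj (op T)} {R : Sieve T}
    (hR : R ∈ J T) (h : ∀ ⦃T' : C⦄ (f : T' ⟶ T), R f → F.obj.map f.op x = F.obj.map f.op y) : x = y :=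
  (isSheaf_forget F R hR).isSeparatedFor.ext h

/-- Separation, sheaves of sets. -/
theorem ext_of_local' (F : Sheaf J (Type (u + 1))) {T : C} {x y : F.obj.obj (op T)} {R : Sieve T}
    (hR : R ∈ J T) (h : ∀ ⦃T' : C⦄ (f : T' ⟶ T), R f → F.obj.map f.op x = F.obj.map f.op y) : x = y :=
  ((isSheaf_iff_isSheaf_of_type _ _).1 F.property R hR).isSeparatedFor.ext h

/-- Descent of a unique existence, sheaves of sets: if the elements characterised by `p` exist locally, are locally
unique and `p` is local, then they exist. -/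
theorem glue' (F : Sheaf J (Type (u + 1))) {T : C} (p : ∀ ⦃T' : C⦄, (T' ⟶ T) → F.obj.obj (op T') → Prop)
    (hmap : ∀ ⦃T' T'' : C⦄ (f : T' ⟶ T) (g : T'' ⟶ T') (x : F.obj.obj (op T')), p f x →
      p (g ≫ f) (F.obj.map g.op x))
    (huniq : ∀ ⦃T' : C⦄ (f : T' ⟶ T) (x y : F.obj.obj (op T')), p f x → p f y → x = y)
    {R : Sieve T} (hR : R ∈ J T) (hex : ∀ ⦃T' : C⦄ (f : T' ⟶ T), R f → ∃ x, p f x) :
    ∃ x : F.obj.obj (op T), ∀ ⦃T' : C⦄ (f : T' ⟶ T), R f → p f (F.obj.map f.op x) := by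
  choose s hs using hex
  let fam : Presieve.FamilyOfElements F.obj R.arrows := fun T' f hf => s f hf
  have hc : fam.Compatible := by
    intro Y₁ Y₂ Z g₁ g₂ f₁ f₂ h₁ h₂ e
    refine huniq (g₁ ≫ f₁) _ _ (hmap f₁ g₁ _ (hs f₁ h₁)) ?_
    rw [e]
    exact hmap f₂ g₂ _ (hs f₂ h₂)
  have hF := (isSheaf_iff_isSheaf_of_type _ _).1 F.property R hR
  refine ⟨hF.amalgamate fam hc, fun T' f hf => ?_⟩
  rw [hF.valid_glue hc f hf]
  exact hs f hf

/-- Descent of a unique existence. -/
theorem glue (F : Sheaf J AddCommGrpCat.{u + 1}) {T : C} (p : ∀ ⦃T' : C⦄, (T' ⟶ T) → F.obj.obj (op T') → Prop)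
    (hmap : ∀ ⦃T' T'' : C⦄ (f : T' ⟶ T) (g : T'' ⟶ T') (x : F.obj.obj (op T')), p f x →
      p (g ≫ f) (F.obj.map g.op x))
    (huniq : ∀ ⦃T' : C⦄ (f : T' ⟶ T) (x y : F.obj.obj (op T')), p f x → p f y → x = y)
    {R : Sieve T} (hR : R ∈ J T) (hex : ∀ ⦃T' : C⦄ (f : T' ⟶ T), R f → ∃ x, p f x) :
    ∃ x : F.obj.obj (op T), ∀ ⦃T' : C⦄ (f : T' ⟶ T), R f → p f (F.obj.map f.op x) :=
  glue' ((sheafCompose J (forget AddCommGrpCat.{u + 1})).obj F) p hmap huniq hR hex

section Exact

variable [HasSheafify J AddCommGrpCat.{u + 1}]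

/-- A monomorphism is injective on sections. -/
theorem injective_app {F F' : Sheaf J AddCommGrpCat.{u + 1}} (φ : F ⟶ F') [Mono φ] (T : C) :
    Function.Injective (φ.hom.app (op T)) :=
  (AddCommGrpCat.mono_iff_injective _).1
    (inferInstanceAs (Mono (((sheafToPresheaf J AddCommGrpCat.{u + 1} ⋙ (evaluation _ _).obj (op T))).map φ)))

/-- An exact sequence with a monomorphism on the left is exact on sections. -/
theorem exists_of_exact (S : ShortComplex (Sheaf J AddCommGrpCat.{u + 1})) (hS : S.Exact) [Mono S.f] (T : C)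
    (x : S.X₂.obj.obj (op T)) (hx : S.g.hom.app (op T) x = 0) : ∃ y, S.f.hom.app (op T) y = x :=
  (ShortComplex.ab_exact_iff _).1
    (hS.map_of_mono_of_preservesKernel (sheafToPresheaf J AddCommGrpCat.{u + 1} ⋙ (evaluation _ _).obj (op T))
      ‹_› inferInstance) x hx

/-- An exact sequence is exact on sections, locally. -/
theorem local_of_exact (S : ShortComplex (Sheaf J AddCommGrpCat.{u + 1})) (hS : S.Exact) (T : C)
    (x : S.X₂.obj.obj (op T)) (hx : S.g.hom.app (op T) x = 0) :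
    ∃ R ∈ J T, ∀ ⦃T' : C⦄ (f : T' ⟶ T), R f → ∃ y, S.f.hom.app (op T') y = S.X₂.obj.map f.op x := by
  haveI : Epi (kernel.lift S.g S.f S.zero) := (S.exact_iff_epi_kernel_lift).1 hS
  obtain ⟨z, hz⟩ := exists_of_exact (ShortComplex.mk (kernel.ι S.g) S.g (kernel.condition _))
    (ShortComplex.exact_of_f_is_kernel _ (kernelIsKernel _)) T x hx
  haveI := (Sheaf.isLocallySurjective_iff_epi' (φ := kernel.lift S.g S.f S.zero)).2 ‹_›
  refine ⟨_, Presheaf.imageSieve_mem J (kernel.lift S.g S.f S.zero).hom z, fun T' f hf => ?_⟩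
  obtain ⟨y, hy⟩ := hf
  refine ⟨y, ?_⟩
  have e := congrArg (fun φ : S.X₁ ⟶ S.X₂ => φ.hom.app (op T') y) (kernel.lift_ι S.g S.f S.zero)
  refine e.symm.trans ?_
  show (kernel.ι S.g).hom.app (op T') ((kernel.lift S.g S.f S.zero).hom.app (op T') y) = _
  exact (congrArg _ hy).trans ((app_map _ f z).trans (congrArg _ hz))

/-- An epimorphism is locally surjective on sections. -/
theorem local_of_epi {F F' : Sheaf J AddCommGrpCat.{u + 1}} (φ : F ⟶ F') [Epi φ] (T : C)
    (x : F'.obj.obj (op T)) :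
    ∃ R ∈ J T, ∀ ⦃T' : C⦄ (f : T' ⟶ T), R f → ∃ y, φ.hom.app (op T') y = F'.obj.map f.op x := by
  haveI := (Sheaf.isLocallySurjective_iff_epi' (φ := φ)).2 ‹_›
  exact ⟨_, Presheaf.imageSieve_mem J φ.hom x, fun T' f hf => hf⟩

end Exact

section HomSh

instance overPullback_preservesFiniteLimits (X : C) :
    PreservesFiniteLimits (J.overPullback AddCommGrpCat.{u + 1} X) :=
  haveI : PreservesFiniteLimits (J.overPullback AddCommGrpCat.{u + 1} X ⋙ sheafToPresheaf (J.over X) _) :=
    inferInstanceAs (PreservesFiniteLimits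
      (sheafToPresheaf J AddCommGrpCat.{u + 1} ⋙ (Functor.whiskeringLeft _ _ _).obj (Over.forget X).op))
  preservesFiniteLimits_of_reflects_of_preserves _ (sheafToPresheaf (J.over X) _)

variable (F : Sheaf J AddCommGrpCat.{u + 1})

instance homShFunctor_preservesFiniteLimits : PreservesFiniteLimits (HomSh.homShFunctor J F) :=
  haveI : PreservesFiniteLimits (HomSh.homShFunctor J F ⋙ sheafToPresheaf J _) :=
    ⟨fun K _ _ => preservesLimitsOfShape_of_evaluation _ K fun T =>
      haveI : PreservesFiniteLimits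
          (J.overPullback AddCommGrpCat.{u + 1} T.unop ⋙ preadditiveCoyoneda.obj (op (F.over T.unop))) :=
        inferInstance
      preservesLimitsOfShape_of_natIso (J := K) (NatIso.ofComponents (fun M => Iso.refl _) (fun φ => by
        refine AddCommGrpCat.ext fun χ => ?_
        show χ ≫ (J.overPullback _ T.unop).map φ =
          (J.overPullback _ T.unop).map (𝟙 F) ≫ χ ≫ (J.overPullback _ T.unop).map φ
        rw [(J.overPullback _ T.unop).map_id, Category.id_comp]) :
        J.overPullback AddCommGrpCat.{u + 1} T.unop ⋙ preadditiveCoyoneda.obj (op (F.over T.unop)) ≅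
          (HomSh.homShFunctor J F ⋙ sheafToPresheaf J _) ⋙ (evaluation _ _).obj T)⟩
  preservesFiniteLimits_of_reflects_of_preserves _ (sheafToPresheaf J _)

variable {F} {M : Sheaf J AddCommGrpCat.{u + 1}}

/-- A morphism of restricted sheaves from its values on sections. -/
noncomputable def mkHom {T : C} (φ : ∀ U : Over T, F.obj.obj (op U.left) →+ M.obj.obj (op U.left))
    (hφ : ∀ ⦃U V : Over T⦄ (g : V ⟶ U) (x : F.obj.obj (op U.left)),
      φ V (F.obj.map g.left.op x) = M.obj.map g.left.op (φ U x)) : F.over T ⟶ M.over T :=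
  ⟨{ app := fun U => AddCommGrpCat.ofHom (φ U.unop)
     naturality := fun U V g => AddCommGrpCat.ext fun x => hφ g.unop x }⟩

/-- The value of a morphism of restricted sheaves at a section. -/
noncomputable def ap {T : C} (φ : F.over T ⟶ M.over T) (U : Over T) : F.obj.obj (op U.left) →+ M.obj.obj (op U.left) :=
  (φ.hom.app (op U)).hom

@[simp]
theorem ap_mkHom {T : C} (φ : ∀ U : Over T, F.obj.obj (op U.left) →+ M.obj.obj (op U.left))
    (hφ : ∀ ⦃U V : Over T⦄ (g : V ⟶ U) (x : F.obj.obj (op U.left)),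
      φ V (F.obj.map g.left.op x) = M.obj.map g.left.op (φ U x)) (U : Over T) (x : F.obj.obj (op U.left)) :
    ap (mkHom φ hφ) U x = φ U x := rfl

theorem ap_nat {T : C} (φ : F.over T ⟶ M.over T) {U V : Over T} (g : V ⟶ U) (x : F.obj.obj (op U.left)) :
    ap φ V (F.obj.map g.left.op x) = M.obj.map g.left.op (ap φ U x) :=
  ConcreteCategory.congr_hom (φ.hom.naturality g.op) x

theorem hom_ext {T : C} {φ φ' : F.over T ⟶ M.over T} (h : ∀ U x, ap φ U x = ap φ' U x) : φ = φ' :=
  ObjectProperty.hom_ext _ (NatTrans.ext (funext fun U => AddCommGrpCat.ext fun x => h U.unop x))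

@[simp]
theorem ap_add {T : C} (φ φ' : F.over T ⟶ M.over T) (U : Over T) (x : F.obj.obj (op U.left)) :
    ap (φ + φ') U x = ap φ U x + ap φ' U x := rfl

theorem ap_add' {T : C} (φ φ' : (HomSh.homSh J F M).obj.obj (op T)) (U : Over T) (x : F.obj.obj (op U.left)) :
    ap (φ + φ') U x = ap φ U x + ap φ' U x := rfl

theorem ap_res {T T' : C} (f : T' ⟶ T) (φ : (HomSh.homSh J F M).obj.obj (op T)) (U : Over T')
    (x : F.obj.obj (op U.left)) :
    ap ((HomSh.homSh J F M).obj.map f.op φ) U x = ap φ ((Over.map f).obj U) x := rfl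

theorem ap_homShMap {M' : Sheaf J AddCommGrpCat.{u + 1}} (β : M ⟶ M') {T : C}
    (φ : (HomSh.homSh J F M).obj.obj (op T)) (U : Over T) (x : F.obj.obj (op U.left)) :
    ap ((HomSh.homShMap J (𝟙 F) β).hom.app (op T) φ) U x = β.hom.app (op U.left) (ap φ U x) := rfl

end HomSh

end Groth.Agent.AbSchX.SheafSect
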