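import Groth.Agent.AbSchX.BiextDiv
import Groth.Agent.AbSchX.SheafSect
import Mathlib.Algebra.Group.MinimalAxioms

/-! The group structures on the fibres of a biextension. -/

universe u

open CategoryTheory Opposite

namespace Groth.Agent.AbSchX.BiextGrp

open SheafSect BiextDiv

variable {C : Type (u + 1)} [Category.{u} C] {J : GrothendieckTopology C}
variable {P Q G : Sheaf J AddCommGrpCat.{u + 1}}

/-- Exchange of the two factors. -/
@[reducible] def flip (B : Biext J P Q G) : Biext J Q P G where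
  E := B.E
  πP := B.πQ
  πQ := B.πP
  πP_map := B.πQ_map
  πQ_map := B.πP_map
  act := B.act
  act_map := B.act_map
  πP_act := B.πQ_act
  πQ_act := B.πP_act
  zero_act := B.zero_act
  add_act := B.add_act
  existsUnique_act T x y h h' := B.existsUnique_act T x y h' h
  locallySurjective T q p := by
    obtain ⟨R, hR, h⟩ := B.locallySurjective T p q
    exact ⟨R, hR, fun T' f hf => let ⟨x, hp, hq⟩ := h f hf; ⟨x, hq, hp⟩⟩
  add₁ := B.add₂
  πP_add₁ := B.πQ_add₂
  πQ_add₁ := B.πP_add₂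
  add₁_map := B.add₂_map
  add₁_comm := B.add₂_comm
  add₁_assoc := B.add₂_assoc
  add₁_act := B.add₂_act
  add₂ := B.add₁
  πP_add₂ := B.πQ_add₁
  πQ_add₂ := B.πP_add₁
  add₂_map := B.add₁_map
  add₂_comm := B.add₁_comm
  add₂_assoc := B.add₁_assoc
  add₂_act := B.add₁_act
  compat T x y z t hxy hzt hxz hyt := (B.compat T x z y t hxz hyt hxy hzt).symm

variable (B : Biext J P Q G)

/-- The fibre over a section of `P`. -/
abbrev Fib (T : C) (p : P.obj.obj (op T)) : Type (u + 1) := {x : B.E.obj.obj (op T) // B.πP T x = p}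

variable {B}

/-- The law of the fibre. -/
def Fib.add {T : C} {p : P.obj.obj (op T)} (x y : Fib B T p) : Fib B T p :=
  ⟨B.add₂ T x.1 y.1 (x.2.trans y.2.symm), (B.πP_add₂ _ _ _ _).trans x.2⟩

theorem Fib.add_assoc {T : C} {p : P.obj.obj (op T)} (x y z : Fib B T p) :
    (x.add y).add z = x.add (y.add z) := Subtype.ext (B.add₂_assoc T x.1 y.1 z.1 _ _)

theorem Fib.add_comm {T : C} {p : P.obj.obj (op T)} (x y : Fib B T p) : x.add y = y.add x :=
  Subtype.ext (B.add₂_comm T x.1 y.1 _)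

/-- Restriction to the fibre over the restricted section. -/
def Fib.res {T T' : C} (f : T' ⟶ T) {p : P.obj.obj (op T)} {p' : P.obj.obj (op T')} (hp : P.obj.map f.op p = p')
    (x : Fib B T p) : Fib B T' p' :=
  ⟨B.E.obj.map f.op x.1, by rw [B.πP_map, x.2, hp]⟩

theorem Fib.res_add {T T' : C} (f : T' ⟶ T) {p : P.obj.obj (op T)} {p' : P.obj.obj (op T')}
    (hp : P.obj.map f.op p = p') (x y : Fib B T p) : (x.add y).res f hp = (x.res f hp).add (y.res f hp) :=
  Subtype.ext (B.add₂_map f x.1 y.1 _)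

theorem add_cancel {T : C} {x z z' : B.E.obj.obj (op T)} (h : B.πP T x = B.πP T z) (h' : B.πP T x = B.πP T z')
    (e : B.add₂ T x z h = B.add₂ T x z' h') : z = z' := by
  have hq : B.πQ T z = B.πQ T z' := by
    have := congrArg (B.πQ T) e
    rwa [B.πQ_add₂, B.πQ_add₂, add_right_inj] at this
  obtain ⟨g, hg, -⟩ := B.existsUnique_act T z z' (h.symm.trans h') hq
  subst hg
  have e2 : B.act T 0 (B.add₂ T x z h) = B.act T g (B.add₂ T x z h) := by
    rw [B.zero_act]
    refine e.trans ?_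
    rw [B.add₂_comm, B.add₂_act T g z x h.symm, B.add₂_comm T z x h.symm]
  rw [← act_inj B e2, B.zero_act]

theorem Fib.add_left_cancel {T : C} {p : P.obj.obj (op T)} {x z z' : Fib B T p} (e : x.add z = x.add z') : z = z' :=
  Subtype.ext (add_cancel _ _ (congrArg Subtype.val e))

/-- Subtraction in the fibre. -/
theorem Fib.exists_add_eq {T : C} {p : P.obj.obj (op T)} (x y : Fib B T p) : ∃ z : Fib B T p, x.add z = y := by
  obtain ⟨R, hR, hloc⟩ := B.locallySurjective T p (B.πQ T y.1 - B.πQ T x.1)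
  obtain ⟨z, hz⟩ := glue' B.E
    (fun T' f w => ∃ h : B.πP T' (B.E.obj.map f.op x.1) = B.πP T' w,
      B.add₂ T' (B.E.obj.map f.op x.1) w h = B.E.obj.map f.op y.1)
    (fun T' T'' f g w hw => by
      obtain ⟨h, hw⟩ := hw
      refine ⟨by rw [map_map B.E.obj f g, B.πP_map, h, ← B.πP_map], ?_⟩
      rw [map_map B.E.obj f g y.1, ← hw, B.add₂_map]
      exact add₂_congr B (map_map B.E.obj f g x.1) rfl)
    (fun T' f w w' hw hw' => add_cancel hw.1 hw'.1 (hw.2.trans hw'.2.symm)) hR
    (fun T' f hf => by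
      obtain ⟨w, hwp, hwq⟩ := hloc f hf
      have h : B.πP T' (B.E.obj.map f.op x.1) = B.πP T' w := by rw [B.πP_map, x.2, hwp]
      obtain ⟨g, hg, -⟩ := B.existsUnique_act T' (B.add₂ T' _ w h) (B.E.obj.map f.op y.1)
        (by rw [B.πP_add₂, B.πP_map, B.πP_map, x.2, y.2])
        (by rw [B.πQ_add₂, B.πQ_map, B.πQ_map, hwq, ← map_add, add_sub_cancel])
      refine ⟨B.act T' g w, h.trans (B.πP_act T' g w).symm, ?_⟩
      rw [B.add₂_comm, B.add₂_act T' g w _ h.symm, B.add₂_comm T' w _ h.symm, hg])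
  have hzp : B.πP T z = p := ext_of_local P hR fun T' f hf => by
    rw [← B.πP_map, ← (hz f hf).1, B.πP_map, x.2]
  refine ⟨⟨z, hzp⟩, Subtype.ext (ext_of_local' B.E hR fun T' f hf => ?_)⟩
  obtain ⟨h, e⟩ := hz f hf
  exact (B.add₂_map f x.1 z _).trans e

theorem Fib.idem_unique {T : C} {p : P.obj.obj (op T)} {e e' : Fib B T p} (h : e.add e = e) (h' : e'.add e' = e') :
    e = e' := by
  have h1 : e.add e' = e' := Fib.add_left_cancel (x := e) (by rw [← Fib.add_assoc, h])
  have h2 : e'.add e = e := Fib.add_left_cancel (x := e') (by rw [← Fib.add_assoc, h'])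
  rw [← h2, Fib.add_comm, h1]

theorem Fib.exists_unit (T : C) (p : P.obj.obj (op T)) : ∃ e : Fib B T p, e.add e = e := by
  obtain ⟨R, hR, hloc⟩ := B.locallySurjective T p 0
  obtain ⟨e, he⟩ := glue' B.E
    (fun T' f w => ∃ e : Fib B T' (P.obj.map f.op p), e.1 = w ∧ e.add e = e)
    (fun T' T'' f g w ⟨e, he, hee⟩ => ⟨e.res g (map_map P.obj f g p).symm, by rw [← he]; rfl,
      by rw [← Fib.res_add, hee]⟩)
    (fun T' f w w' ⟨e, he, hee⟩ ⟨e', he', hee'⟩ => by rw [← he, ← he', Fib.idem_unique hee hee']) hR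
    (fun T' f hf => by
      obtain ⟨w, hw, -⟩ := hloc f hf
      let x : Fib B T' (P.obj.map f.op p) := ⟨w, hw⟩
      obtain ⟨z, hz⟩ := Fib.exists_add_eq x x
      exact ⟨z.1, z, rfl, Fib.add_left_cancel (x := x) (by rw [← Fib.add_assoc, hz]; exact hz.symm ▸ hz)⟩)
  have hep : B.πP T e = p := ext_of_local P hR fun T' f hf => by
    obtain ⟨e', he', -⟩ := he f hf
    rw [← B.πP_map, ← he', e'.2]
  refine ⟨⟨e, hep⟩, Subtype.ext (ext_of_local' B.E hR fun T' f hf => ?_)⟩
  obtain ⟨e', he', hee⟩ := he f hf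
  exact (B.add₂_map f e e _).trans ((add₂_congr B he'.symm he'.symm).trans ((congrArg Subtype.val hee).trans he'))

noncomputable instance {T : C} {p : P.obj.obj (op T)} : AddCommGroup (Fib B T p) :=
  letI : Add (Fib B T p) := ⟨Fib.add⟩
  letI : Zero (Fib B T p) := ⟨(Fib.exists_unit T p).choose⟩
  letI : Neg (Fib B T p) := ⟨fun x => (Fib.exists_add_eq x 0).choose⟩
  { AddGroup.ofRightAxioms (G := Fib B T p) Fib.add_assoc
      (fun x => Fib.add_left_cancel (x := (0 : Fib B T p)) (by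
        have h0 : Fib.add (0 : Fib B T p) 0 = 0 := (Fib.exists_unit T p).choose_spec
        show Fib.add 0 (Fib.add x 0) = Fib.add 0 x
        rw [Fib.add_comm x, ← Fib.add_assoc, h0]))
      (fun x => (Fib.exists_add_eq x 0).choose_spec) with
    add_comm := Fib.add_comm }

@[simp]
theorem Fib.val_add {T : C} {p : P.obj.obj (op T)} (x y : Fib B T p) :
    (x + y).1 = B.add₂ T x.1 y.1 (x.2.trans y.2.symm) := rfl

/-- Restriction is a homomorphism. -/
noncomputable def Fib.resHom {T T' : C} (f : T' ⟶ T) {p : P.obj.obj (op T)} {p' : P.obj.obj (op T')}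
    (hp : P.obj.map f.op p = p') : Fib B T p →+ Fib B T' p' :=
  AddMonoidHom.mk' (Fib.res f hp) (Fib.res_add f hp)

@[simp]
theorem Fib.val_resHom {T T' : C} (f : T' ⟶ T) {p : P.obj.obj (op T)} {p' : P.obj.obj (op T')}
    (hp : P.obj.map f.op p = p') (x : Fib B T p) : (Fib.resHom f hp x).1 = B.E.obj.map f.op x.1 := rfl

/-- The embedding of the structure group in a fibre. -/
noncomputable def Fib.incl (T : C) (p : P.obj.obj (op T)) : G.obj.obj (op T) →+ Fib B T p :=
  AddMonoidHom.mk' (fun g => ⟨B.act T g (0 : Fib B T p).1, (B.πP_act _ _ _).trans (0 : Fib B T p).2⟩)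
    fun g g' => Subtype.ext (by
      show B.act T (g + g') (0 : Fib B T p).1 = B.add₂ T (B.act T g _) (B.act T g' _) _
      rw [add₂_act_act B g g' _ _ rfl]
      exact congrArg (B.act T (g + g')) (congrArg Subtype.val (_root_.add_zero (0 : Fib B T p))).symm)

theorem Fib.act_eq {T : C} {p : P.obj.obj (op T)} (g : G.obj.obj (op T)) (x : Fib B T p) :
    (Fib.incl T p g + x).1 = B.act T g x.1 := by
  show B.add₂ T (B.act T g (0 : Fib B T p).1) x.1 _ = _
  rw [B.add₂_act T g _ x.1 ((0 : Fib B T p).2.trans x.2.symm)]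
  exact congrArg (B.act T g) (congrArg Subtype.val (_root_.zero_add x))

theorem Fib.incl_injective (T : C) (p : P.obj.obj (op T)) : Function.Injective (Fib.incl (B := B) T p) :=
  fun _ _ h => act_inj B (congrArg Subtype.val h)

end Groth.Agent.AbSchX.BiextGrp
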