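import Groth.Agent.AbSchX.BiextGrp
import Mathlib.Algebra.Category.Grp.EnoughInjectives
import Mathlib.CategoryTheory.Preadditive.Injective.Basic
import Mathlib.GroupTheory.FreeAbelianGroup
import Mathlib.GroupTheory.QuotientGroup.Basic

/-! A biextension maps to any injective sheaf containing its structure group, linearly in the second variable. -/

universe u

open CategoryTheory CategoryTheory.Limits Opposite

namespace Groth.Agent.AbSchX.BiextPsi

open SheafSect BiextDiv BiextGrp

variable {C : Type (u + 1)} [Category.{u} C] {J : GrothendieckTopology C}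
variable {P Q G : Sheaf J AddCommGrpCat.{u + 1}} (B : Biext J P Q G)

/-- Generators: a section of `G` and a formal sum of sections of `E`. -/
abbrev Gen (T : C) : Type (u + 1) := G.obj.obj (op T) × FreeAbelianGroup (B.E.obj.obj (op T))

/-- The relations. -/
def relSet (T : C) : Set (Gen B T) :=
  {z | ∃ g x, z = (-g, FreeAbelianGroup.of (B.act T g x) - FreeAbelianGroup.of x)} ∪
  {z | ∃ x y h, z = (0, FreeAbelianGroup.of (B.add₂ T x y h) - FreeAbelianGroup.of x - FreeAbelianGroup.of y)}

/-- The group they generate. -/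
def rel (T : C) : AddSubgroup (Gen B T) := AddSubgroup.closure (relSet B T)

/-- Restriction of generators. -/
noncomputable def genMap {T T' : C} (f : T' ⟶ T) : Gen B T →+ Gen B T' :=
  AddMonoidHom.prodMap (G.obj.map f.op).hom (FreeAbelianGroup.map (fun x => B.E.obj.map f.op x))

theorem rel_le {T T' : C} (f : T' ⟶ T) : rel B T ≤ (rel B T').comap (genMap B f) := by
  refine (AddSubgroup.closure_le _).2 ?_
  rintro z (⟨g, x, rfl⟩ | ⟨x, y, h, rfl⟩) <;> refine AddSubgroup.subset_closure ?_
  · refine Or.inl ⟨G.obj.map f.op g, B.E.obj.map f.op x, ?_⟩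
    simp only [genMap, AddMonoidHom.coe_prodMap, Prod.map_apply, map_neg, map_sub, FreeAbelianGroup.map_of_apply,
      B.act_map]
  · refine Or.inr ⟨B.E.obj.map f.op x, B.E.obj.map f.op y, by rw [B.πP_map, B.πP_map, h], ?_⟩
    simp only [genMap, AddMonoidHom.coe_prodMap, Prod.map_apply, map_zero, map_sub, FreeAbelianGroup.map_of_apply,
      B.add₂_map]

theorem genMap_comp {T T' T'' : C} (f : T' ⟶ T) (g : T'' ⟶ T') (z : Gen B T) :
    genMap B (g ≫ f) z = genMap B g (genMap B f z) := by
  refine Prod.ext (map_map G.obj f g z.1) ?_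
  show FreeAbelianGroup.map _ z.2 = FreeAbelianGroup.map _ (FreeAbelianGroup.map _ z.2)
  rw [← FreeAbelianGroup.map_comp_apply]
  congr 2
  funext x
  exact map_map B.E.obj f g x

theorem genMap_id (T : C) (z : Gen B T) : genMap B (𝟙 T) z = z := by
  refine Prod.ext (map_id G.obj z.1) ?_
  show FreeAbelianGroup.map _ z.2 = z.2
  conv_rhs => rw [← FreeAbelianGroup.map_id_apply z.2]
  congr 2
  funext x
  exact map_id B.E.obj x

/-- The presheaf of groups generated by `G` and `E`. -/
noncomputable def pre : Cᵒᵖ ⥤ AddCommGrpCat.{u + 1} where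
  obj T := AddCommGrpCat.of (Gen B T.unop ⧸ rel B T.unop)
  map f := AddCommGrpCat.ofHom (QuotientAddGroup.map _ _ (genMap B f.unop) (rel_le B f.unop))
  map_id T := AddCommGrpCat.ext fun x => QuotientAddGroup.induction_on x fun z =>
    congrArg QuotientAddGroup.mk (genMap_id B T.unop z)
  map_comp f g := AddCommGrpCat.ext fun x => QuotientAddGroup.induction_on x fun z =>
    congrArg QuotientAddGroup.mk (genMap_comp B f.unop g.unop z)

/-- The structure group in it. -/
noncomputable def preι : G.obj ⟶ pre B where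
  app T := AddCommGrpCat.ofHom ((QuotientAddGroup.mk' (rel B T.unop)).comp (AddMonoidHom.inl _ _))
  naturality S T f := AddCommGrpCat.ext fun g =>
    congrArg QuotientAddGroup.mk (Prod.ext rfl (map_zero (FreeAbelianGroup.map _)).symm)

theorem preι_injective (T : C) : Function.Injective ((preι B).app (op T)) := by
  rw [injective_iff_map_eq_zero]
  intro g hg
  let D : AddCommGrpCat.{u + 1} := Injective.under (AddCommGrpCat.of (G.obj.obj (op T)))
  let j : AddCommGrpCat.of (G.obj.obj (op T)) ⟶ D := Injective.ι _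
  have hinj : ∀ p, Mono (AddCommGrpCat.ofHom (Fib.incl (B := B) T p)) := fun p =>
    (AddCommGrpCat.mono_iff_injective _).2 (Fib.incl_injective T p)
  let s : ∀ p, AddCommGrpCat.of (Fib B T p) ⟶ D := fun p =>
    haveI := hinj p
    Injective.factorThru j (AddCommGrpCat.ofHom (Fib.incl T p))
  have hs : ∀ p g, s p (Fib.incl T p g) = j g := fun p g =>
    haveI := hinj p
    ConcreteCategory.congr_hom (Injective.comp_factorThru j (AddCommGrpCat.ofHom (Fib.incl T p))) g
  let S : B.E.obj.obj (op T) → D := fun x =>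
    s (B.πP T x) ⟨x, rfl⟩
  have hS : ∀ x p (h : B.πP T x = p), S x = s p ⟨x, h⟩ := fun x p h => by subst h; rfl
  let Θ : Gen B T →+ D :=
    AddMonoidHom.coprod j.hom (FreeAbelianGroup.lift S)
  have hker : rel B T ≤ Θ.ker := by
    refine (AddSubgroup.closure_le _).2 ?_
    rintro z (⟨g, x, rfl⟩ | ⟨x, y, h, rfl⟩) <;>
      simp only [Θ, SetLike.mem_coe, AddMonoidHom.mem_ker, AddMonoidHom.coprod_apply, map_sub, map_zero, map_neg,
        FreeAbelianGroup.lift_apply_of]
    · rw [hS _ _ (B.πP_act T g x), hS x _ rfl,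
        show (⟨B.act T g x, B.πP_act T g x⟩ : Fib B T (B.πP T x)) = Fib.incl T _ g + ⟨x, rfl⟩ from
          Subtype.ext (Fib.act_eq g ⟨x, rfl⟩).symm, map_add, hs]
      abel
    · rw [hS _ _ (B.πP_add₂ T x y h), hS x _ rfl, hS y _ h.symm,
        show (⟨B.add₂ T x y h, B.πP_add₂ T x y h⟩ : Fib B T (B.πP T x)) = ⟨x, rfl⟩ + ⟨y, h.symm⟩ from
          Subtype.ext rfl, map_add]
      abel
  have h0 : Θ (g, 0) = 0 := hker ((QuotientAddGroup.eq_zero_iff _).1 hg)
  simp only [Θ, AddMonoidHom.coprod_apply, map_zero, _root_.add_zero] at h0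
  exact (AddCommGrpCat.mono_iff_injective j).1 inferInstance (h0.trans (map_zero _).symm)

/-- A linear extension to `E` of an embedding of `G` in an injective sheaf. -/
theorem exists_psi [HasSheafify J AddCommGrpCat.{u + 1}] (I : Sheaf J AddCommGrpCat.{u + 1}) [Injective I] (i : G ⟶ I) :
    ∃ ψ : ∀ T : C, B.E.obj.obj (op T) → I.obj.obj (op T),
      (∀ {T T' : C} (f : T' ⟶ T) (x : B.E.obj.obj (op T)), ψ T' (B.E.obj.map f.op x) = I.obj.map f.op (ψ T x)) ∧
      (∀ T g x, ψ T (B.act T g x) = i.hom.app (op T) g + ψ T x) ∧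
      (∀ T x y h, ψ T (B.add₂ T x y h) = ψ T x + ψ T y) := by
  haveI : Injective ((sheafToPresheaf J AddCommGrpCat.{u + 1}).obj I) :=
    Injective.injective_of_adjoint (sheafificationAdjunction J AddCommGrpCat.{u + 1}) I
  haveI : Injective I.obj := ‹Injective ((sheafToPresheaf J AddCommGrpCat.{u + 1}).obj I)›
  haveI : ∀ T, Mono ((preι B).app T) := fun T => (AddCommGrpCat.mono_iff_injective _).2 (preι_injective B T.unop)
  haveI : Mono (preι B) := NatTrans.mono_of_mono_app _
  let Φ := Injective.factorThru i.hom (preι B)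
  have hΦ : preι B ≫ Φ = i.hom := Injective.comp_factorThru _ _
  let mk : ∀ T, Gen B T →+ I.obj.obj (op T) := fun T => (Φ.app (op T)).hom.comp (QuotientAddGroup.mk' (rel B T))
  have hrel : ∀ T z, z ∈ relSet B T → mk T z = 0 := fun T z hz => by
    show (Φ.app (op T)).hom (QuotientAddGroup.mk' (rel B T) z) = 0
    rw [show QuotientAddGroup.mk' (rel B T) z = 0 from
      (QuotientAddGroup.eq_zero_iff _).2 (AddSubgroup.subset_closure hz)]
    exact map_zero (Φ.app (op T)).hom
  have hG : ∀ T g, mk T (g, 0) = i.hom.app (op T) g := fun T g =>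
    ConcreteCategory.congr_hom (congr_app hΦ (op T)) g
  refine ⟨fun T x => mk T (0, FreeAbelianGroup.of x), fun {T T'} f x => ?_, fun T g x => ?_, fun T x y h => ?_⟩
  · refine Eq.trans ?_ (NatTrans.naturality_apply Φ f.op _)
    refine congrArg (Φ.app (op T')) (congrArg QuotientAddGroup.mk ?_)
    exact Prod.ext (map_zero (G.obj.map f.op).hom).symm (FreeAbelianGroup.map_of_apply x).symm
  · have h := hrel T _ (Or.inl ⟨g, x, rfl⟩)
    rw [show ((-g, FreeAbelianGroup.of (B.act T g x) - FreeAbelianGroup.of x) : Gen B T) =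
      (0, FreeAbelianGroup.of (B.act T g x)) - (g, 0) - (0, FreeAbelianGroup.of x) from
        Prod.ext (by simp) (by simp), map_sub, map_sub, hG, sub_sub, sub_eq_zero] at h
    exact h
  · have h' := hrel T _ (Or.inr ⟨x, y, h, rfl⟩)
    rw [show (((0 : G.obj.obj (op T)), FreeAbelianGroup.of (B.add₂ T x y h) - FreeAbelianGroup.of x -
        FreeAbelianGroup.of y) : Gen B T) =
      (0, FreeAbelianGroup.of (B.add₂ T x y h)) - (0, FreeAbelianGroup.of x) - (0, FreeAbelianGroup.of y) from
        Prod.ext (by simp) rfl, map_sub, map_sub, sub_sub, sub_eq_zero] at h'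
    exact h'

end Groth.Agent.AbSchX.BiextPsi
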