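import Groth.Agent.AbSchX.BiextClass

/-! The sheaf of partial splittings of a biextension: an extension of the first sheaf by the internal Hom. -/

universe u

open CategoryTheory CategoryTheory.Limits Opposite

namespace Groth.Agent.AbSchX.BiextSect

open SheafSect BiextDiv BiextGrp BiextClass

variable {C : Type (u + 1)} [Category.{u} C] {J : GrothendieckTopology C}
variable {P Q G : Sheaf J AddCommGrpCat.{u + 1}} (D : Datum P Q G)

/-- A section of `P` with a lift of its obstruction morphism. -/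
@[ext]
structure Pair (T : C) : Type (u + 1) where
  p : P.obj.obj (op T)
  φ : (HomSh.homSh J Q D.I).obj.obj (op T)
  h : (HomSh.homShMap J (𝟙 Q) D.π).hom.app (op T) φ = cT D p

variable {D}

theorem Pair.hap {T : C} (a : Pair D T) (U : Over T) (q : Q.obj.obj (op U.left)) :
    D.π.hom.app (op U.left) (ap a.φ U q) = c D U.left (P.obj.map U.hom.op a.p) q := by
  rw [← ap_homShMap, a.h, cT_app]

/-- The lift of a pair to the biextension. -/
noncomputable def Pair.elt {T : C} (a : Pair D T) (U : Over T) (q : Q.obj.obj (op U.left)) :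
    Fib (flip D.B) U.left q :=
  ⟨(existsUnique_elt D U.left _ q _ (a.hap U q)).choose, (existsUnique_elt D U.left _ q _ (a.hap U q)).choose_spec.1.2.1⟩

theorem Pair.πP_elt {T : C} (a : Pair D T) (U : Over T) (q : Q.obj.obj (op U.left)) :
    D.B.πP U.left (a.elt U q).1 = P.obj.map U.hom.op a.p :=
  (existsUnique_elt D U.left _ q _ (a.hap U q)).choose_spec.1.1

theorem Pair.ψ_elt {T : C} (a : Pair D T) (U : Over T) (q : Q.obj.obj (op U.left)) :
    D.ψ U.left (a.elt U q).1 = ap a.φ U q :=
  (existsUnique_elt D U.left _ q _ (a.hap U q)).choose_spec.1.2.2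

theorem Pair.elt_unique {T : C} (a : Pair D T) (U : Over T) (q : Q.obj.obj (op U.left))
    (x : D.B.E.obj.obj (op U.left)) (h1 : D.B.πP U.left x = P.obj.map U.hom.op a.p) (h2 : D.B.πQ U.left x = q)
    (h3 : D.ψ U.left x = ap a.φ U q) : x = (a.elt U q).1 :=
  (existsUnique_elt D U.left _ q _ (a.hap U q)).choose_spec.2 x ⟨h1, h2, h3⟩

theorem Pair.elt_add {T : C} (a : Pair D T) (U : Over T) (q q' : Q.obj.obj (op U.left)) :
    (a.elt U (q + q')).1 = D.B.add₂ U.left (a.elt U q).1 (a.elt U q').1 ((a.πP_elt U q).trans (a.πP_elt U q').symm) :=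
  (a.elt_unique U _ _ (by rw [D.B.πP_add₂, a.πP_elt])
    (by rw [D.B.πQ_add₂]; exact congrArg₂ (· + ·) (a.elt U q).2 (a.elt U q').2)
    (by rw [D.ψ_add₂, a.ψ_elt, a.ψ_elt, map_add])).symm

theorem Pair.elt_map {T : C} (a : Pair D T) {U V : Over T} (g : V ⟶ U) (q : Q.obj.obj (op U.left)) :
    (a.elt V (Q.obj.map g.left.op q)).1 = D.B.E.obj.map g.left.op (a.elt U q).1 :=
  (a.elt_unique V _ _ (by rw [D.B.πP_map, a.πP_elt, ← map_map P.obj U.hom g.left, Over.w g])
    (by rw [D.B.πQ_map]; exact congrArg _ (a.elt U q).2)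
    (by rw [D.ψ_map, a.ψ_elt]; exact (ap_nat a.φ g q).symm)).symm

/-- A family of lifts gives a pair. -/
noncomputable def ofSec {T : C} (p : P.obj.obj (op T)) (σ : ∀ U : Over T, ∀ q, Fib (flip D.B) U.left q)
    (hp : ∀ U q, D.B.πP U.left (σ U q).1 = P.obj.map U.hom.op p)
    (hadd : ∀ U q q', (σ U (q + q')).1 = D.B.add₂ U.left (σ U q).1 (σ U q').1 ((hp U q).trans (hp U q').symm))
    (hmap : ∀ ⦃U V : Over T⦄ (g : V ⟶ U) q, (σ V (Q.obj.map g.left.op q)).1 = D.B.E.obj.map g.left.op (σ U q).1) :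
    Pair D T where
  p := p
  φ := mkHom (fun U => AddMonoidHom.mk' (fun q => D.ψ U.left (σ U q).1) fun q q' => by rw [hadd, D.ψ_add₂])
    fun U V g q => by
      show D.ψ V.left (σ V (Q.obj.map g.left.op q)).1 = D.I.obj.map g.left.op (D.ψ U.left (σ U q).1)
      rw [hmap, D.ψ_map]
  h := SheafSect.hom_ext fun U q => by
    refine (ap_homShMap D.π _ U q).trans (Eq.trans ?_ (cT_app D p U q).symm)
    show D.π.hom.app (op U.left) (D.ψ U.left (σ U q).1) = _
    refine ((c_eq D (σ U q).1).symm.trans (congrArg (c D U.left _) (σ U q).2)).trans ?_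
    exact congrArg (fun x => c D U.left x q) (hp U q)

theorem elt_ofSec {T : C} (p : P.obj.obj (op T)) (σ : ∀ U : Over T, ∀ q, Fib (flip D.B) U.left q)
    (hp : ∀ U q, D.B.πP U.left (σ U q).1 = P.obj.map U.hom.op p)
    (hadd : ∀ U q q', (σ U (q + q')).1 = D.B.add₂ U.left (σ U q).1 (σ U q').1 ((hp U q).trans (hp U q').symm))
    (hmap : ∀ ⦃U V : Over T⦄ (g : V ⟶ U) q, (σ V (Q.obj.map g.left.op q)).1 = D.B.E.obj.map g.left.op (σ U q).1)
    (U : Over T) (q : Q.obj.obj (op U.left)) : (ofSec p σ hp hadd hmap).elt U q = σ U q :=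
  Subtype.ext ((ofSec p σ hp hadd hmap).elt_unique U q (σ U q).1 (hp U q) (σ U q).2 rfl).symm

theorem Pair.ext_elt {T : C} {a b : Pair D T} (hp : a.p = b.p) (h : ∀ U q, a.elt U q = b.elt U q) : a = b :=
  Pair.ext hp (SheafSect.hom_ext fun U q => by rw [← a.ψ_elt, ← b.ψ_elt, h])

theorem πP_zero {T : C} (q : Q.obj.obj (op T)) : D.B.πP T (0 : Fib (flip D.B) T q).1 = 0 := by
  have h := congrArg (fun x : Fib (flip D.B) T q => D.B.πP T x.1) (_root_.add_zero (0 : Fib (flip D.B) T q))
  exact left_eq_add.1 ((D.B.πP_add₁ T _ _ _).symm.trans h).symm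

noncomputable instance (T : C) : Add (Pair D T) :=
  ⟨fun a b => ofSec (a.p + b.p) (fun U q => a.elt U q + b.elt U q)
    (fun U q => (D.B.πP_add₁ U.left _ _ _).trans
      ((congrArg₂ (· + ·) (a.πP_elt U q) (b.πP_elt U q)).trans (map_add _ _ _).symm))
    (fun U q q' => by
      refine (add₁_congr D.B (a.elt_add U q q') (b.elt_add U q q') (h' := ?_)).trans
        (D.B.compat U.left _ _ _ _ _ _ _ _)
      · rw [D.B.πQ_add₂, D.B.πQ_add₂]
        exact congrArg₂ (· + ·) ((a.elt U q).2.trans (b.elt U q).2.symm) ((a.elt U q').2.trans (b.elt U q').2.symm))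
    fun U V g q => (add₁_congr D.B (a.elt_map g q) (b.elt_map g q)).trans (D.B.add₁_map g.left _ _ _).symm⟩

noncomputable instance (T : C) : Zero (Pair D T) :=
  ⟨ofSec 0 (fun _ _ => 0) (fun U q => (πP_zero q).trans (map_zero _).symm)
    (fun U q q' => by
      refine congrArg Subtype.val (Fib.idem_unique (B := flip D.B) (e := (0 : Fib (flip D.B) U.left (q + q')))
        (e' := ⟨D.B.add₂ U.left (0 : Fib (flip D.B) U.left q).1 (0 : Fib (flip D.B) U.left q').1
          ((πP_zero q).trans (πP_zero q').symm), (D.B.πQ_add₂ _ _ _ _).trans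
            (congrArg₂ (· + ·) (0 : Fib (flip D.B) U.left q).2 (0 : Fib (flip D.B) U.left q').2)⟩)
        (_root_.add_zero (0 : Fib (flip D.B) U.left (q + q'))) (Subtype.ext ?_))
      refine (D.B.compat U.left _ _ _ _ _ _ rfl rfl).trans ?_
      exact add₂_congr D.B (congrArg Subtype.val (_root_.add_zero (0 : Fib (flip D.B) U.left q)))
        (congrArg Subtype.val (_root_.add_zero (0 : Fib (flip D.B) U.left q'))))
    fun U V g q => (congrArg Subtype.val (map_zero (Fib.resHom (B := flip D.B) g.left rfl))).symm⟩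

noncomputable instance (T : C) : Neg (Pair D T) :=
  ⟨fun a => ofSec (-a.p) (fun U q => -a.elt U q)
    (fun U q => by
      have h := (congrArg (fun x : Fib (flip D.B) U.left q => D.B.πP U.left x.1)
        (_root_.add_neg_cancel (a.elt U q))).trans (πP_zero q)
      rw [Fib.val_add] at h
      rw [map_neg]
      refine eq_neg_of_add_eq_zero_right ?_
      rw [← a.πP_elt U q]
      exact (D.B.πP_add₁ U.left _ _ _).symm.trans h)
    (fun U q q' => by
      have hn : ∀ q, D.B.πP U.left (-a.elt U q).1 = -P.obj.map U.hom.op a.p := fun q => by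
        have h := (congrArg (fun x : Fib (flip D.B) U.left q => D.B.πP U.left x.1)
          (_root_.add_neg_cancel (a.elt U q))).trans (πP_zero q)
        rw [Fib.val_add] at h
        refine eq_neg_of_add_eq_zero_right ?_
        rw [← a.πP_elt U q]
        exact (D.B.πP_add₁ U.left _ _ _).symm.trans h
      let w : Fib (flip D.B) U.left (q + q') :=
        ⟨D.B.add₂ U.left (-a.elt U q).1 (-a.elt U q').1 ((hn q).trans (hn q').symm),
          (D.B.πQ_add₂ _ _ _ _).trans (congrArg₂ (· + ·) (-a.elt U q).2 (-a.elt U q').2)⟩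
      refine congrArg Subtype.val (show -a.elt U (q + q') = w from neg_eq_of_add_eq_zero_right ?_)
      refine Fib.idem_unique ?_ (_root_.add_zero (0 : Fib (flip D.B) U.left (q + q')))
      have e : (a.elt U (q + q') + w).1 = D.B.add₂ U.left (0 : Fib (flip D.B) U.left q).1
          (0 : Fib (flip D.B) U.left q').1 ((πP_zero q).trans (πP_zero q').symm) := by
        refine (add₁_congr D.B (a.elt_add U q q') rfl (h' := ?_)).trans ((D.B.compat U.left _ _ _ _ _ _ ?_ ?_).trans
          (add₂_congr D.B (congrArg Subtype.val (_root_.add_neg_cancel (a.elt U q)))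
            (congrArg Subtype.val (_root_.add_neg_cancel (a.elt U q')))))
        · rw [D.B.πQ_add₂, D.B.πQ_add₂]
          exact congrArg₂ (· + ·) ((a.elt U q).2.trans (-a.elt U q).2.symm) ((a.elt U q').2.trans (-a.elt U q').2.symm)
        · exact (a.elt U q).2.trans (-a.elt U q).2.symm
        · exact (a.elt U q').2.trans (-a.elt U q').2.symm
      refine Subtype.ext ?_
      refine (add₁_congr D.B e e (h' := rfl)).trans (((D.B.compat U.left _ _ _ _ _ _ rfl rfl).trans ?_).trans e.symm)
      exact add₂_congr D.B (congrArg Subtype.val (_root_.add_zero (0 : Fib (flip D.B) U.left q)))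
        (congrArg Subtype.val (_root_.add_zero (0 : Fib (flip D.B) U.left q'))))
    fun U V g q => by
      refine Eq.trans ?_ (congrArg Subtype.val (map_neg (Fib.resHom (B := flip D.B) g.left rfl) (a.elt U q))).symm
      rw [show Fib.resHom (B := flip D.B) g.left rfl (a.elt U q) = a.elt V (Q.obj.map g.left.op q) from
        Subtype.ext (a.elt_map g q).symm]⟩

theorem p_add {T : C} (a b : Pair D T) : (a + b).p = a.p + b.p := rfl

theorem elt_add' {T : C} (a b : Pair D T) (U : Over T) (q : Q.obj.obj (op U.left)) :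
    (a + b).elt U q = a.elt U q + b.elt U q := elt_ofSec _ _ _ _ _ U q

theorem elt_zero' {T : C} (U : Over T) (q : Q.obj.obj (op U.left)) : (0 : Pair D T).elt U q = 0 :=
  elt_ofSec _ _ _ _ _ U q

theorem elt_neg' {T : C} (a : Pair D T) (U : Over T) (q : Q.obj.obj (op U.left)) : (-a).elt U q = -a.elt U q :=
  elt_ofSec _ _ _ _ _ U q

noncomputable instance (T : C) : AddCommGroup (Pair D T) :=
  { AddGroup.ofRightAxioms (G := Pair D T)
      (fun a b c => Pair.ext_elt (_root_.add_assoc a.p b.p c.p) fun U q => by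
        rw [elt_add', elt_add', elt_add', elt_add', _root_.add_assoc])
      (fun a => Pair.ext_elt (_root_.add_zero a.p) fun U q => by rw [elt_add', elt_zero', _root_.add_zero])
      (fun a => Pair.ext_elt (_root_.add_neg_cancel a.p) fun U q => by
        rw [elt_add', elt_neg', elt_zero', _root_.add_neg_cancel]) with
    add_comm := fun a b => Pair.ext_elt (_root_.add_comm a.p b.p) fun U q => by
      rw [elt_add', elt_add', _root_.add_comm] }

/-- Restriction of a pair. -/
noncomputable def Pair.res {T T' : C} (f : T' ⟶ T) (a : Pair D T) : Pair D T' where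
  p := P.obj.map f.op a.p
  φ := (HomSh.homSh J Q D.I).obj.map f.op a.φ
  h := by rw [app_map, a.h, cT_map]

theorem Pair.elt_res {T T' : C} (f : T' ⟶ T) (a : Pair D T) (U : Over T') (q : Q.obj.obj (op U.left)) :
    ((a.res f).elt U q).1 = (a.elt ((Over.map f).obj U) q).1 :=
  ((a.res f).elt_unique U q _
    (by rw [show (a.res f).p = P.obj.map f.op a.p from rfl, ← map_map P.obj f U.hom]
        exact a.πP_elt ((Over.map f).obj U) q)
    (a.elt ((Over.map f).obj U) q).2
    (a.ψ_elt ((Over.map f).obj U) q)).symm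

theorem Pair.res_add {T T' : C} (f : T' ⟶ T) (a b : Pair D T) : (a + b).res f = a.res f + b.res f :=
  Pair.ext_elt (map_add (P.obj.map f.op).hom a.p b.p) fun U q => by
    rw [elt_add']
    refine Subtype.ext ((Pair.elt_res f (a + b) U q).trans ?_)
    rw [elt_add']
    exact add₁_congr D.B (Pair.elt_res f a U q).symm (Pair.elt_res f b U q).symm

variable (D)

/-- The presheaf of pairs. -/
noncomputable def pre : Cᵒᵖ ⥤ AddCommGrpCat.{u + 1} where
  obj T := AddCommGrpCat.of (Pair D T.unop)
  map f := AddCommGrpCat.ofHom (AddMonoidHom.mk' (Pair.res f.unop) (Pair.res_add f.unop))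
  map_id T := AddCommGrpCat.ext fun a => Pair.ext (map_id P.obj a.p) (map_id (HomSh.homSh J Q D.I).obj a.φ)
  map_comp f g := AddCommGrpCat.ext fun a =>
    Pair.ext (map_map P.obj f.unop g.unop a.p) (map_map (HomSh.homSh J Q D.I).obj f.unop g.unop a.φ)

theorem isSheaf_pre : Presheaf.IsSheaf J (pre D) := by
  refine Presheaf.isSheaf_of_isSheaf_comp J (pre D) (forget AddCommGrpCat.{u + 1})
    ((isSheaf_iff_isSheaf_of_type _ _).2 fun T R hR fam hfam => ?_)
  have hp : ∃ p : P.obj.obj (op T), ∀ ⦃T' : C⦄ (f : T' ⟶ T) (hf : R f), P.obj.map f.op p = (fam f hf).p := by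
    have hc : Presieve.FamilyOfElements.Compatible (P := P.obj ⋙ forget AddCommGrpCat.{u + 1})
        (fun T' f hf => (fam f hf).p) := fun Y₁ Y₂ Z g₁ g₂ f₁ f₂ h₁ h₂ e => congrArg Pair.p (hfam g₁ g₂ h₁ h₂ e)
    exact ⟨(isSheaf_forget P R hR).amalgamate _ hc, fun T' f hf => (isSheaf_forget P R hR).valid_glue hc f hf⟩
  have hφ : ∃ φ : (HomSh.homSh J Q D.I).obj.obj (op T), ∀ ⦃T' : C⦄ (f : T' ⟶ T) (hf : R f),
      (HomSh.homSh J Q D.I).obj.map f.op φ = (fam f hf).φ := by
    have hc : Presieve.FamilyOfElements.Compatible (P := (HomSh.homSh J Q D.I).obj ⋙ forget AddCommGrpCat.{u + 1})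
        (fun T' f hf => (fam f hf).φ) := fun Y₁ Y₂ Z g₁ g₂ f₁ f₂ h₁ h₂ e => congrArg Pair.φ (hfam g₁ g₂ h₁ h₂ e)
    exact ⟨(isSheaf_forget (HomSh.homSh J Q D.I) R hR).amalgamate _ hc,
      fun T' f hf => (isSheaf_forget (HomSh.homSh J Q D.I) R hR).valid_glue hc f hf⟩
  obtain ⟨p, hp⟩ := hp
  obtain ⟨φ, hφ⟩ := hφ
  refine ⟨⟨p, φ, ext_of_local _ hR fun T' f hf => ?_⟩, fun T' f hf => Pair.ext (hp f hf) (hφ f hf), ?_⟩
  · rw [← app_map, hφ f hf, (fam f hf).h, cT_map, hp f hf]
  · intro a ha
    refine Pair.ext (ext_of_local P hR fun T' f hf => ?_) (ext_of_local _ hR fun T' f hf => ?_)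
    · exact (congrArg Pair.p (ha f hf)).trans (hp f hf).symm
    · exact (congrArg Pair.φ (ha f hf)).trans (hφ f hf).symm

/-- The sheaf of pairs. -/
noncomputable def shM : Sheaf J AddCommGrpCat.{u + 1} := ⟨pre D, isSheaf_pre D⟩

/-- The projection to `P`. -/
noncomputable def pr : shM D ⟶ P :=
  ⟨{ app := fun T => AddCommGrpCat.ofHom (AddMonoidHom.mk' Pair.p fun _ _ => rfl)
     naturality := fun _ _ f => AddCommGrpCat.ext fun _ => rfl }⟩

variable {D} in
theorem zero_add₂ {T : C} (q q' : Q.obj.obj (op T)) :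
    (0 : Fib (flip D.B) T (q + q')).1 = D.B.add₂ T (0 : Fib (flip D.B) T q).1 (0 : Fib (flip D.B) T q').1
      ((πP_zero q).trans (πP_zero q').symm) := by
  refine congrArg Subtype.val (Fib.idem_unique (B := flip D.B) (e := (0 : Fib (flip D.B) T (q + q')))
    (e' := ⟨D.B.add₂ T (0 : Fib (flip D.B) T q).1 (0 : Fib (flip D.B) T q').1
      ((πP_zero q).trans (πP_zero q').symm), (D.B.πQ_add₂ _ _ _ _).trans
        (congrArg₂ (· + ·) (0 : Fib (flip D.B) T q).2 (0 : Fib (flip D.B) T q').2)⟩)
    (_root_.add_zero (0 : Fib (flip D.B) T (q + q'))) (Subtype.ext ?_))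
  refine (D.B.compat T _ _ _ _ _ _ rfl rfl).trans ?_
  exact add₂_congr D.B (congrArg Subtype.val (_root_.add_zero (0 : Fib (flip D.B) T q)))
    (congrArg Subtype.val (_root_.add_zero (0 : Fib (flip D.B) T q')))

variable {D} in
theorem incl_add₂ {T : C} (g g' : G.obj.obj (op T)) (q q' : Q.obj.obj (op T)) :
    (Fib.incl (B := flip D.B) T (q + q') (g + g')).1 = D.B.add₂ T (Fib.incl (B := flip D.B) T q g).1
      (Fib.incl (B := flip D.B) T q' g').1 (((D.B.πP_act T g _).trans (πP_zero q)).trans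
        ((D.B.πP_act T g' _).trans (πP_zero q')).symm) := by
  show D.B.act T (g + g') (0 : Fib (flip D.B) T (q + q')).1 = _
  rw [zero_add₂]
  exact (add₂_act_act D.B g g' _ _ _).symm

variable {D} in
theorem incl_map {T T' : C} (f : T' ⟶ T) (g : G.obj.obj (op T)) (q : Q.obj.obj (op T)) :
    (Fib.incl (B := flip D.B) T' (Q.obj.map f.op q) (G.obj.map f.op g)).1 =
      D.B.E.obj.map f.op (Fib.incl (B := flip D.B) T q g).1 := by
  show D.B.act T' _ _ = D.B.E.obj.map f.op (D.B.act T g _)
  rw [D.B.act_map, show (0 : Fib (flip D.B) T' (Q.obj.map f.op q)) = Fib.resHom f rfl 0 from (map_zero _).symm]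
  rfl

/-- A pair over `0` from a morphism into the structure group. -/
noncomputable def jPair {T : C} (χ : (HomSh.homSh J Q G).obj.obj (op T)) : Pair D T :=
  ofSec 0 (fun U q => Fib.incl U.left q (ap χ U q))
    (fun U q => ((D.B.πP_act _ _ _).trans (πP_zero q)).trans (map_zero (P.obj.map U.hom.op).hom).symm)
    (fun U q q' => (congrArg (fun g => (Fib.incl (B := flip D.B) U.left (q + q') g).1) (map_add (ap χ U) q q')).trans
      (incl_add₂ _ _ q q'))
    fun U V g q => (congrArg (fun x => (Fib.incl (B := flip D.B) V.left (Q.obj.map g.left.op q) x).1)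
      (ap_nat χ g q)).trans (incl_map g.left _ q)

theorem elt_jPair {T : C} (χ : (HomSh.homSh J Q G).obj.obj (op T)) (U : Over T) (q : Q.obj.obj (op U.left)) :
    (jPair D χ).elt U q = Fib.incl U.left q (ap χ U q) := elt_ofSec _ _ _ _ _ U q

/-- The inclusion of the internal Hom. -/
noncomputable def jm : HomSh.homSh J Q G ⟶ shM D :=
  ⟨{ app := fun T => AddCommGrpCat.ofHom (AddMonoidHom.mk' (jPair D) fun χ χ' =>
      Pair.ext_elt (_root_.add_zero (0 : P.obj.obj (op T.unop))).symm fun U q => by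
        rw [elt_add']
        exact (elt_jPair D _ U q).trans (((congrArg (Fib.incl U.left q) (ap_add' χ χ' U q)).trans (map_add _ _ _)).trans
          (congrArg₂ (· + ·) (elt_jPair D χ U q).symm (elt_jPair D χ' U q).symm)))
     naturality := fun T T' f => AddCommGrpCat.ext fun χ =>
      Pair.ext_elt (map_zero (P.obj.map f).hom).symm fun U q => by
        refine Subtype.ext ?_
        refine Eq.trans ?_ (Pair.elt_res f.unop (jPair D χ) U q).symm
        refine (congrArg Subtype.val (elt_jPair D _ U q)).trans (Eq.trans ?_ (congrArg Subtype.val (elt_jPair D χ ((Over.map f.unop).obj U) q)).symm)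
        exact congrArg (fun g => (Fib.incl (B := flip D.B) U.left q g).1) (ap_res f.unop χ U q) }⟩

theorem jPair_injective (T : C) : Function.Injective (jPair D (T := T)) := fun χ χ' h =>
  SheafSect.hom_ext fun U q => Fib.incl_injective (B := flip D.B) U.left q (by rw [← elt_jPair, ← elt_jPair, h])

theorem exists_jPair {T : C} (a : Pair D T) (ha : a.p = 0) : ∃ χ, jPair D χ = a := by
  have hg : ∀ (U : Over T) (q : Q.obj.obj (op U.left)),
      ∃! g, D.B.act U.left g (0 : Fib (flip D.B) U.left q).1 = (a.elt U q).1 := fun U q =>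
    D.B.existsUnique_act U.left _ _ (by rw [πP_zero, a.πP_elt, ha, map_zero])
      ((0 : Fib (flip D.B) U.left q).2.trans (a.elt U q).2.symm)
  choose g hg hgu using hg
  refine ⟨mkHom (fun U => AddMonoidHom.mk' (g U) fun q q' => ((hgu U (q + q')) _ ?_).symm) fun U V f q =>
    ((hgu V _) _ ?_).symm, Pair.ext_elt ha.symm fun U q => ?_⟩
  · show D.B.act U.left (g U q + g U q') _ = _
    rw [a.elt_add]
    exact (incl_add₂ _ _ q q').trans (add₂_congr D.B (hg U q) (hg U q'))
  · show D.B.act V.left (G.obj.map f.left.op (g U q)) _ = _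
    rw [a.elt_map]
    exact (incl_map f.left _ q).trans (congrArg _ (hg U q))
  · exact (elt_jPair D _ U q).trans (Subtype.ext (hg U q))

theorem jm_pr : jm D ≫ pr D = 0 := ObjectProperty.hom_ext _ (NatTrans.ext (funext fun _ => AddCommGrpCat.ext fun _ => rfl))

/-- The extension of `P` by the internal Hom. -/
noncomputable def sc : ShortComplex (Sheaf J AddCommGrpCat.{u + 1}) := ShortComplex.mk (jm D) (pr D) (jm_pr D)

theorem shortExact [HasSheafify J AddCommGrpCat.{u + 1}]
    (hlift : ∀ (T : C) (p : P.obj.obj (op T)), ∃ R ∈ J T, ∀ ⦃T' : C⦄ (f : T' ⟶ T), R f →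
      ∃ φ, (HomSh.homShMap J (𝟙 Q) D.π).hom.app (op T') φ = cT D (P.obj.map f.op p)) :
    (sc D).ShortExact := by
  haveI : Mono (jm D) := by
    refine (sheafToPresheaf J AddCommGrpCat.{u + 1}).mono_of_mono_map ?_
    haveI : ∀ T, Mono (((sheafToPresheaf J AddCommGrpCat.{u + 1}).map (jm D)).app T) := fun T => (AddCommGrpCat.mono_iff_injective _).2 (jPair_injective D T.unop)
    exact NatTrans.mono_of_mono_app _
  haveI : Epi (pr D) := by
    refine (Sheaf.isLocallySurjective_iff_epi' (φ := pr D)).1 ⟨fun {T} p => ?_⟩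
    obtain ⟨R, hR, k⟩ := hlift T p
    refine J.superset_covering ?_ hR
    intro T' f hf
    obtain ⟨φ, hφ⟩ := k f hf
    exact ⟨⟨P.obj.map f.op p, φ, hφ⟩, rfl⟩
  have hex : (sc D).Exact := by
    refine ShortComplex.exact_of_f_is_kernel _ (KernelFork.IsLimit.ofι' (jm D) (jm_pr D) fun {A} k hk => ?_)
    have hk' : ∀ (T : Cᵒᵖ) (x : A.obj.obj T), ∃ χ, jPair D χ = k.hom.app T x := fun T x =>
      exists_jPair D _ (ConcreteCategory.congr_hom (congr_app (congrArg InducedCategory.Hom.hom hk) T) x)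
    choose χ hχ using hk'
    refine ⟨⟨{ app := fun T => AddCommGrpCat.ofHom (AddMonoidHom.mk' (χ T) fun x y => jPair_injective D T.unop ?_)
               naturality := fun T T' f => AddCommGrpCat.ext fun x => jPair_injective D T'.unop ?_ }⟩,
      ObjectProperty.hom_ext _ (NatTrans.ext (funext fun T => AddCommGrpCat.ext fun x => hχ T x))⟩
    · rw [hχ, map_add (k.hom.app T).hom, ← hχ, ← hχ]
      exact (map_add ((jm D).hom.app T).hom _ _).symm
    · refine (hχ T' (A.obj.map f x)).trans (((NatTrans.naturality_apply k.hom f x).trans ?_).trans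
        (NatTrans.naturality_apply (jm D).hom f (χ T x)).symm)
      exact congrArg ((shM D).obj.map f) (hχ T x).symm
  exact { exact := hex, mono_f := ‹_›, epi_g := ‹_› }

/-- A section of the projection is a splitting. -/
theorem isTrivial_of_section (s : P ⟶ shM D) (hs : s ≫ pr D = 𝟙 P) : Biext.IsTrivial J D.B := by
  have hp : ∀ (T : C) (p : P.obj.obj (op T)), Pair.p (D := D) (T := T) (s.hom.app (op T) p) = p := fun T p =>
    ConcreteCategory.congr_hom (congr_app (congrArg InducedCategory.Hom.hom hs) (op T)) p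
  let a : ∀ (T : C), P.obj.obj (op T) → Pair D T := fun T p => s.hom.app (op T) p
  refine ⟨⟨fun T p q => ((a T p).elt (Over.mk (𝟙 T)) q).1, fun T p q => ?_, fun T p q => ((a T p).elt (Over.mk (𝟙 T)) q).2,
    fun {T T'} f p q => ?_, fun T p p' q => ?_, fun T p q q' => ?_⟩⟩
  · refine ((a T p).πP_elt (Over.mk (𝟙 T)) q).trans ?_
    show P.obj.map (𝟙 T).op _ = p
    rw [map_id P.obj]
    exact hp T p
  · have h1 : a T' (P.obj.map f.op p) = (a T p).res f := app_map s f p
    refine Eq.trans ?_ (congrArg (fun b : Pair D T' => (b.elt (Over.mk (𝟙 T')) (Q.obj.map f.op q)).1) h1).symm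
    refine Eq.trans ?_ (Pair.elt_res f (a T p) (Over.mk (𝟙 T')) _).symm
    exact ((a T p).elt_map (U := Over.mk (𝟙 T)) (V := (Over.map f).obj (Over.mk (𝟙 T'))) (Over.homMk f (by simp)) q).symm
  · have h2 : a T (p + p') = a T p + a T p' := map_add (s.hom.app (op T)).hom p p'
    show ((a T (p + p')).elt (Over.mk (𝟙 T)) q).1 = _
    rw [h2, elt_add']
    rfl
  · exact (a T p).elt_add (Over.mk (𝟙 T)) q q'

end Groth.Agent.AbSchX.BiextSect
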