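import Groth.Agent.AbSchX.BiextSect
import Groth.Agent.H9Misc.Theta
import Mathlib.Algebra.Homology.DerivedCategory.Ext.ExactSequences

/-! Criterion of triviality of biextensions: no morphism to the Ext sheaf and no extension by the Hom sheaf. -/

universe u w

open CategoryTheory CategoryTheory.Limits Opposite

namespace Groth.Agent.AbSchX.BiextTriv

open SheafSect BiextClass BiextSect

variable {C : Type (u + 1)} [Category.{u} C] {J : GrothendieckTopology C}

/-- The connecting map to the first Ext sheaf. -/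
theorem exists_rho [HasSheafify J AddCommGrpCat.{u + 1}] [EnoughInjectives (Sheaf J AddCommGrpCat.{u + 1})]
    (Q : Sheaf J AddCommGrpCat.{u + 1}) {G I N : Sheaf J AddCommGrpCat.{u + 1}} (i : G ⟶ I) (π : I ⟶ N) (w : i ≫ π = 0)
    (hex : (ShortComplex.mk i π w).Exact) [Mono i] [Epi π] [Injective I] :
    ∃ (ρ : HomSh.homSh J Q N ⟶ (HomSh.extSh J Q 1).obj G)
      (h : HomSh.homShMap J (𝟙 Q) π ≫ ρ = 0), (ShortComplex.mk (HomSh.homShMap J (𝟙 Q) π) ρ h).Exact := by
  rw [HomSh.extSh_def]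
  exact ⟨H9Misc.Theta.rho (HomSh.homShFunctor J Q) i π (injectiveResolution N) w hex,
    H9Misc.Theta.map_g_rho (HomSh.homShFunctor J Q) i π (injectiveResolution N) w hex,
    H9Misc.Theta.exact_rho (HomSh.homShFunctor J Q) i π (injectiveResolution N) w hex⟩

theorem app_app_eq_zero {A A' A'' : Sheaf J AddCommGrpCat.{u + 1}} {a : A ⟶ A'} {b : A' ⟶ A''} (h : a ≫ b = 0)
    (T : C) (x : A.obj.obj (op T)) : b.hom.app (op T) (a.hom.app (op T) x) = 0 :=
  (ConcreteCategory.congr_hom (congr_app (congrArg InducedCategory.Hom.hom h) (op T)) x :)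

/-- Every morphism `P ⟶ 𝓔xt¹(Q, G)` and every class in `Ext¹(P, 𝓗om(Q, G))` vanishing, biextensions are trivial. -/
theorem isTrivial [HasSheafify J AddCommGrpCat.{u + 1}]
    [EnoughInjectives (Sheaf J AddCommGrpCat.{u + 1})] [HasExt.{w} (Sheaf J AddCommGrpCat.{u + 1})]
    (P Q G : Sheaf J AddCommGrpCat.{u + 1})
    (h₁ : ∀ e : Abelian.Ext P (HomSh.homSh J Q G) 1, e = 0)
    (h₂ : ∀ φ : P ⟶ (HomSh.extSh J Q 1).obj G, φ = 0)
    (B : Biext J P Q G) : Biext.IsTrivial J B := by
  let i : G ⟶ Injective.under G := Injective.ι G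
  let π := cokernel.π i
  haveI : Mono i := inferInstanceAs (Mono (Injective.ι G))
  have w : i ≫ π = 0 := cokernel.condition i
  have hex : (ShortComplex.mk i π w).Exact := ShortComplex.exact_of_g_is_cokernel _ (cokernelIsCokernel i)
  obtain ⟨ψ, ψ_map, ψ_act, ψ_add₂⟩ := BiextPsi.exists_psi B (Injective.under G) i
  let D : Datum P Q G :=
    { B := B, I := Injective.under G, N := cokernel i, i := i, π := π, ψ := ψ
      ψ_map := ψ_map, ψ_act := ψ_act, ψ_add₂ := ψ_add₂
      inj := fun T => injective_app i T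
      exact := fun T v hv => exists_of_exact _ hex T v hv
      πi := fun T g => ConcreteCategory.congr_hom (congr_app (congrArg InducedCategory.Hom.hom w) (op T)) g }
  obtain ⟨ρ, hρ, hρex⟩ := exists_rho Q i π w hex
  let χ : P ⟶ (HomSh.extSh J Q 1).obj G :=
    ⟨{ app := fun T => AddCommGrpCat.ofHom (AddMonoidHom.mk' (fun p => ρ.hom.app (op T.unop) (cT D p)) fun p p' => by
          rw [cT_add, map_add, map_add]
          exact (congrArg _ (app_app_eq_zero hρ T.unop (dT D p p'))).trans (_root_.add_zero _))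
       naturality := fun T T' f => AddCommGrpCat.ext fun p => by
        show ρ.hom.app (op T'.unop) (cT D (P.obj.map f p)) =
          ((HomSh.extSh J Q 1).obj G).obj.map f (ρ.hom.app (op T.unop) (cT D p))
        refine Eq.trans ?_ (app_map ρ f.unop (cT D p))
        exact congrArg (ρ.hom.app (op T'.unop)) (cT_map D f.unop p).symm }⟩
  have hχ : χ = 0 := h₂ χ
  have hlift : ∀ (T : C) (p : P.obj.obj (op T)), ∃ S ∈ J T, ∀ ⦃T' : C⦄ (f : T' ⟶ T), S f →
      ∃ φ, (HomSh.homShMap J (𝟙 Q) D.π).hom.app (op T') φ = cT D (P.obj.map f.op p) := by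
    intro T p
    have h0 : ρ.hom.app (op T) (cT D p) = 0 :=
      (ConcreteCategory.congr_hom (congr_app (congrArg InducedCategory.Hom.hom hχ) (op T)) p :)
    obtain ⟨S, hS, k⟩ := local_of_exact _ hρex T (cT D p) h0
    refine ⟨S, hS, fun T' f hf => ?_⟩
    obtain ⟨φ, hφ⟩ := k f hf
    exact ⟨φ, hφ.trans (cT_map D f p)⟩
  have hS := shortExact D hlift
  obtain ⟨x, hx⟩ := Abelian.Ext.covariant_sequence_exact₃ (X := P) hS (Abelian.Ext.mk₀ (𝟙 P)) (_root_.zero_add 1) (h₁ _)
  obtain ⟨s, rfl⟩ := (Abelian.Ext.mk₀_bijective P (shM D)).2 x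
  refine isTrivial_of_section D s ((Abelian.Ext.mk₀_bijective P P).1 ?_)
  rw [← Abelian.Ext.mk₀_comp_mk₀]
  exact hx

end Groth.Agent.AbSchX.BiextTriv
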