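import Groth.Agent.GrpSchLib.HomFibre
import Groth.Prelude.Def_Red
import Mathlib.AlgebraicGeometry.ZariskisMainTheorem
import Mathlib.AlgebraicGeometry.Morphisms.FlatRank

/-! Finite flat surjective morphisms over a base are detected on the fibres. -/

open CategoryTheory Limits AlgebraicGeometry MonoidalCategory CartesianMonoidalCategory MonObj

universe u

namespace Groth.Agent.AbSchX.Fibrewise

variable {S : Scheme.{u}} {G H : Over S} (u : G ⟶ H)

open GrpSchLib.HomFibre

theorem isProper_left [IsProper G.hom] [IsSeparated H.hom] : IsProper u.left := by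
  haveI : IsProper (u.left ≫ H.hom) := by rw [Over.w u]; infer_instance
  exact IsProper.of_comp u.left H.hom

theorem isFinite_of_fibres [IsProper G.hom] [IsSeparated H.hom] (h : ∀ s, IsFinite (fib u s).left) :
    IsFinite u.left := by
  haveI := isProper_left u
  haveI : LocallyQuasiFinite u.left := by
    rw [locallyQuasiFinite_iff_isDiscrete_preimage_singleton]
    intro y
    obtain ⟨z, hz⟩ := exists_incl y
    haveI := h (H.hom y)
    have hd : _root_.IsDiscrete ((fib u (H.hom y)).left ⁻¹' {z}) := Scheme.Hom.isDiscrete_preimage_singleton _ _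
    have himg : u.left ⁻¹' {y} = incl G (H.hom y) '' ((fib u (H.hom y)).left ⁻¹' {z}) := by
      ext x
      constructor
      · intro hx
        obtain ⟨w, hw1, hw2⟩ := Scheme.exists_preimage_of_isPullback (map_isPullback u (S.fromSpecResidueField (H.hom y))) x z
          (hx.trans hz.symm)
        exact ⟨w, hw2, hw1⟩
      · rintro ⟨w, hw, rfl⟩
        show u.left _ = y
        rw [← Scheme.Hom.comp_apply, (map_isPullback u (S.fromSpecResidueField (H.hom y))).w, Scheme.Hom.comp_apply,
          show ((Over.pullback (S.fromSpecResidueField (H.hom y))).map u).left w = z from hw]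
        exact hz
    rw [himg]
    exact hd.image (G.hom.fiberι (H.hom y)).isEmbedding.toIsInducing
  exact IsFinite.of_isProper_of_locallyQuasiFinite u.left

theorem flat_of_fibres [LocallyOfFinitePresentation G.hom] [Flat G.hom] [LocallyOfFiniteType H.hom]
    (h : ∀ s, Flat (fib u s).left) : Flat u.left := Flat.of_stalkMap _ fun x => by
  obtain ⟨z, hz⟩ := exists_incl x
  haveI := h (G.hom x)
  rw [← hz]
  exact flat_of_fibre_flat u.left H.hom G.hom (Over.w u) _ z (fib u (G.hom x)).left
    (pullback.lift_fst _ _ _) (Over.w (fib u (G.hom x))) (Flat.stalkMap _ _)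

theorem surjective_of_fibres (h : ∀ s, Surjective (fib u s).left) : Surjective u.left := ⟨fun y => by
  obtain ⟨z, hz⟩ := exists_incl y
  haveI := h (H.hom y)
  obtain ⟨w, hw⟩ := (fib u (H.hom y)).left.surjective z
  refine ⟨incl G _ w, ?_⟩
  rw [← Scheme.Hom.comp_apply, (map_isPullback u (S.fromSpecResidueField (H.hom y))).w, Scheme.Hom.comp_apply]
  exact (congrArg _ hw).trans hz⟩

theorem finrank_fib [IsFinite u.left] [Flat u.left] (s : S) (z : ((Over.pullback (S.fromSpecResidueField s)).obj H).left) :
    (fib u s).left.finrank z = u.left.finrank (incl H s z) :=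
  Scheme.Hom.finrank_of_isPullback _ _ _ _ (map_isPullback u (S.fromSpecResidueField s)) z

end Groth.Agent.AbSchX.Fibrewise
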