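import Groth.Agent.AbSchX.SheafSect

/-! Exactness of the internal Hom of abelian sheaves in both variables, on sections. -/

universe u

open CategoryTheory CategoryTheory.Limits Opposite

namespace Groth.Agent.AbSchX.HomShExact

open SheafSect

variable {C : Type (u + 1)} [Category.{u} C] {J : GrothendieckTopology C}
variable {F F' M M' : Sheaf J AddCommGrpCat.{u + 1}}

theorem ap_precomp (α : F' ⟶ F) {T : C} (φ : (HomSh.homSh J F M).obj.obj (op T)) (U : Over T)
    (x : F'.obj.obj (op U.left)) :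
    ap ((HomSh.homShMap J α (𝟙 M)).hom.app (op T) φ) U x = ap φ U (α.hom.app (op U.left) x) := rfl

theorem eq_zero_of_isZero (h : IsZero (HomSh.homSh J F M)) {T : C} (φ : (HomSh.homSh J F M).obj.obj (op T)) :
    φ = 0 :=
  ConcreteCategory.congr_hom (congr_app (congrArg InducedCategory.Hom.hom (h.eq_of_src (𝟙 _) 0)) (op T)) φ

theorem mono_of_injective (β : M ⟶ M') (h : ∀ T : C, Function.Injective (β.hom.app (op T))) : Mono β := by
  refine (sheafToPresheaf J AddCommGrpCat.{u + 1}).mono_of_mono_map ?_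
  haveI : ∀ T, Mono (((sheafToPresheaf J AddCommGrpCat.{u + 1}).map β).app T) := fun T =>
    (AddCommGrpCat.mono_iff_injective _).2 (h T.unop)
  exact NatTrans.mono_of_mono_app _

theorem isIso_of_bijective (β : M ⟶ M') (h : ∀ T : C, Function.Bijective (β.hom.app (op T))) : IsIso β := by
  haveI : ∀ T, IsIso (((sheafToPresheaf J AddCommGrpCat.{u + 1}).map β).app T) := fun T =>
    (ConcreteCategory.isIso_iff_bijective _).2 (h T.unop)
  haveI : IsIso ((sheafToPresheaf J AddCommGrpCat.{u + 1}).map β) := NatIso.isIso_of_isIso_app _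
  exact isIso_of_reflects_iso β (sheafToPresheaf J AddCommGrpCat.{u + 1})

variable [HasSheafify J AddCommGrpCat.{u + 1}]
variable (S : ShortComplex (Sheaf J AddCommGrpCat.{u + 1})) (hS : S.ShortExact)

include hS

/-- A morphism killing the kernel factors through the cokernel. -/
theorem exists_factor {T : C} (φ : (HomSh.homSh J S.X₂ M).obj.obj (op T))
    (h : ∀ (U : Over T) x, ap φ U (S.f.hom.app (op U.left) x) = 0) :
    ∃ χ : (HomSh.homSh J S.X₃ M).obj.obj (op T), ∀ (U : Over T) y, ap χ U (S.g.hom.app (op U.left) y) = ap φ U y := by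
  haveI := hS.mono_f
  haveI := hS.epi_g
  let p : ∀ (U : Over T), S.X₃.obj.obj (op U.left) → M.obj.obj (op U.left) → Prop := fun U a m =>
    ∀ ⦃W : C⦄ (f : W ⟶ U.left) y, S.g.hom.app (op W) y = S.X₃.obj.map f.op a →
      ap φ (Over.mk (f ≫ U.hom)) y = M.obj.map f.op m
  have congrU : ∀ (U : Over T) (y y' : S.X₂.obj.obj (op U.left)), S.g.hom.app (op U.left) y = S.g.hom.app (op U.left) y' →
      ap φ U y = ap φ U y' := fun U y y' e => by
    obtain ⟨x, hx⟩ := exists_of_exact S hS.exact U.left (y - y') (by rw [map_sub, e, sub_self])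
    rw [← sub_eq_zero, ← map_sub (ap φ U) y y', ← hx, h]
  have hex : ∀ U a, ∃! m, p U a m := by
    intro U a
    obtain ⟨R, hR, k⟩ := local_of_epi S.g U.left a
    obtain ⟨m, hm⟩ := glue M (T := U.left)
      (fun W f m => ∃ y, S.g.hom.app (op W) y = S.X₃.obj.map f.op a ∧ ap φ (Over.mk (f ≫ U.hom)) y = m)
      (fun W W' f g m ⟨y, hy, hm⟩ => ⟨S.X₂.obj.map g.op y, by rw [app_map, hy, map_map S.X₃.obj f g], by
        subst hm
        exact Eq.trans (by rw [Category.assoc]; rfl)
          (ap_nat φ (Over.homMk g rfl : Over.mk (g ≫ f ≫ U.hom) ⟶ Over.mk (f ≫ U.hom)) y)⟩)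
      (fun W f m m' ⟨y, hy, hm⟩ ⟨y', hy', hm'⟩ => by rw [← hm, ← hm']; exact congrU (Over.mk (f ≫ U.hom)) y y' (hy.trans hy'.symm)) hR
      (fun W f hf => let ⟨y, hy⟩ := k f hf; ⟨_, y, hy, rfl⟩)
    refine ⟨m, fun W f y hy => ext_of_local M (J.pullback_stable f hR) fun W' g hg => ?_, fun m' hm' =>
      ext_of_local M hR fun W f hf => ?_⟩
    · obtain ⟨y', hy', e⟩ := hm (g ≫ f) hg
      rw [← map_map M.obj f g m, ← e]
      refine Eq.trans (ap_nat φ (Over.homMk g rfl : Over.mk (g ≫ f ≫ U.hom) ⟶ Over.mk (f ≫ U.hom)) y).symm ?_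
      refine (congrU (Over.mk (g ≫ f ≫ U.hom)) _ y' ?_).trans (by rw [Category.assoc])
      show S.g.hom.app (op W') (S.X₂.obj.map g.op y) = S.g.hom.app (op W') y'
      exact (app_map S.g g y).trans ((congrArg (S.X₃.obj.map g.op) hy).trans ((map_map S.X₃.obj f g a).symm.trans hy'.symm))
    · obtain ⟨y, hy, e⟩ := hm f hf
      exact (hm' f y hy).symm.trans e
  choose χ hχ hχu using hex
  have hadd : ∀ U a b, χ U (a + b) = χ U a + χ U b := by
    intro U a b
    obtain ⟨R₁, h₁, k₁⟩ := local_of_epi S.g U.left a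
    obtain ⟨R₂, h₂, k₂⟩ := local_of_epi S.g U.left b
    refine ext_of_local M (J.intersection_covering h₁ h₂) fun W f hf => ?_
    obtain ⟨y₁, hy₁⟩ := k₁ f hf.1
    obtain ⟨y₂, hy₂⟩ := k₂ f hf.2
    rw [map_add, ← hχ U a f y₁ hy₁, ← hχ U b f y₂ hy₂,
      ← hχ U (a + b) f (y₁ + y₂) (by rw [map_add, hy₁, hy₂, map_add]), map_add]
  have hnat : ∀ ⦃U V : Over T⦄ (g : V ⟶ U) a, χ V (S.X₃.obj.map g.left.op a) = M.obj.map g.left.op (χ U a) :=
    fun U V g a => (hχu V _ _ fun W f y hy => by
      refine Eq.trans ?_ ((hχ U a (f ≫ g.left) y (by rw [hy, map_map S.X₃.obj g.left f])).trans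
        (map_map M.obj g.left f _))
      rw [Category.assoc, Over.w g]).symm
  refine ⟨mkHom (fun U => AddMonoidHom.mk' (χ U) (hadd U)) hnat, fun U y => ?_⟩
  refine (ap_mkHom _ _ U _).trans (hχu U _ _ fun W f y' hy' => ?_).symm
  refine Eq.trans ?_ (ap_nat φ (Over.homMk f rfl : Over.mk (f ≫ U.hom) ⟶ U) y)
  exact congrU _ _ _ (hy'.trans (app_map S.g f y).symm)

/-- Mono of precomposition with the inclusion. -/
theorem mono_precomp (h : IsZero (HomSh.homSh J S.X₃ M)) : Mono (HomSh.homShMap J S.f (𝟙 M)) :=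
  mono_of_injective _ fun T => (injective_iff_map_eq_zero _).2 fun φ hφ => by
    obtain ⟨χ, hχ⟩ := exists_factor S hS φ fun U x => by
      rw [← ap_precomp S.f φ U x, hφ]; rfl
    refine SheafSect.hom_ext fun U y => ?_
    rw [← hχ U y, eq_zero_of_isZero h χ]
    rfl

/-- Precomposition with the projection is an isomorphism. -/
theorem isIso_precomp (h : IsZero (HomSh.homSh J S.X₁ M)) : IsIso (HomSh.homShMap J S.g (𝟙 M)) := by
  haveI := hS.epi_g
  refine isIso_of_bijective _ fun T => ⟨(injective_iff_map_eq_zero _).2 fun χ hχ => ?_, fun φ => ?_⟩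
  · refine SheafSect.hom_ext fun U a => ?_
    obtain ⟨R, hR, k⟩ := local_of_epi S.g U.left a
    refine ext_of_local M hR fun W f hf => ?_
    obtain ⟨y, hy⟩ := k f hf
    refine Eq.trans (ap_nat χ (Over.homMk f rfl : Over.mk (f ≫ U.hom) ⟶ U) a).symm ?_
    refine (congrArg (ap χ (Over.mk (f ≫ U.hom))) hy.symm).trans ?_
    refine (ap_precomp S.g χ (Over.mk (f ≫ U.hom)) y).symm.trans ?_
    rw [hχ]
    exact (map_zero (M.obj.map f.op).hom).symm
  · obtain ⟨χ, hχ⟩ := exists_factor S hS φ fun U x => by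
      rw [← ap_precomp S.f φ U x, eq_zero_of_isZero h ((HomSh.homShMap J S.f (𝟙 M)).hom.app (op T) φ)]; rfl
    exact ⟨χ, SheafSect.hom_ext fun U y => hχ U y⟩

/-- Mono of postcomposition with the projection. -/
theorem mono_postcomp (h : IsZero (HomSh.homSh J F S.X₁)) : Mono (HomSh.homShMap J (𝟙 F) S.g) := by
  haveI := hS.mono_f
  haveI : Mono (S.map (HomSh.homShFunctor J F)).f := inferInstanceAs (Mono ((HomSh.homShFunctor J F).map S.f))
  refine mono_of_injective _ fun T => (injective_iff_map_eq_zero _).2 fun φ hφ => ?_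
  obtain ⟨χ, hχ⟩ := exists_of_exact (S.map (HomSh.homShFunctor J F))
    (hS.exact.map_of_mono_of_preservesKernel (HomSh.homShFunctor J F) hS.mono_f inferInstance) T φ hφ
  rw [← hχ, eq_zero_of_isZero h χ]
  exact map_zero _

/-- Postcomposition with the inclusion is an isomorphism. -/
theorem isIso_postcomp (h : IsZero (HomSh.homSh J F S.X₃)) : IsIso (HomSh.homShMap J (𝟙 F) S.f) := by
  haveI := hS.mono_f
  refine isIso_of_bijective _ fun T => ⟨(injective_iff_map_eq_zero _).2 fun φ hφ => ?_, fun φ => ?_⟩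
  · refine SheafSect.hom_ext fun U x => injective_app S.f U.left ?_
    refine (ap_homShMap S.f φ U x).symm.trans ?_
    rw [hφ]
    exact (map_zero _).symm
  · haveI : Mono (S.map (HomSh.homShFunctor J F)).f := inferInstanceAs (Mono ((HomSh.homShFunctor J F).map S.f))
    exact exists_of_exact (S.map (HomSh.homShFunctor J F))
      (hS.exact.map_of_mono_of_preservesKernel (HomSh.homShFunctor J F) hS.mono_f inferInstance) T φ
      (eq_zero_of_isZero h _)

end Groth.Agent.AbSchX.HomShExact
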