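import Groth.Prelude.Def_CGrpSh2
import Groth.Prelude.Def_Red
import Groth.Agent.DSPtsLib.Basic

/-! The internal Hom of sheaves of points vanishes as soon as there are no homomorphisms after any base change. -/

open CategoryTheory Limits AlgebraicGeometry MonoidalCategory CartesianMonoidalCategory Opposite

open scoped MonObj

universe u

namespace Groth.Agent.AbSchX.HomShZero

theorem isMonHom_of_mul {C : Type*} [Category C] [CartesianMonoidalCategory C] {G H : C} [GrpObj G] [GrpObj H]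
    (f : G ⟶ H) (h : ∀ (T : C) (x y : T ⟶ G), (x * y) ≫ f = (x ≫ f) * (y ≫ f)) : IsMonHom f := by
  have h1 : η[G] ≫ f = η[H] := by
    have e := h (𝟙_ C) 1 1
    rw [_root_.one_mul] at e
    have e' := left_eq_mul.1 e
    rwa [← MonObj.one_eq_one, ← MonObj.one_eq_one] at e'
  refine ⟨h1, ?_⟩
  have e := h _ (fst G G) (snd G G)
  rw [show fst G G * snd G G = μ[G] by rw [Hom.mul_def, lift_fst_snd, Category.id_comp]] at e
  rw [e, Hom.mul_def, lift_fst_comp_snd_comp]

variable (K : Precoverage Scheme.{u}) {S : Scheme.{u}} [(QuotSh.J K S).Subcanonical]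
  {P Q : Over S} [GrpObj P] [IsCommMonObj P] [GrpObj Q] [IsCommMonObj Q]

variable {K} {X : Over S} (φ : (CGrpSh.pts K P).over X ⟶ (CGrpSh.pts K Q).over X)

/-- A section of the internal Hom, evaluated at a point. -/
noncomputable def app (W : Over X) (b : W.left ⟶ P) : W.left ⟶ Q :=
  Additive.toMul (ULift.down (φ.hom.app (op W) (ULift.up (Additive.ofMul b))))

theorem app_mul (W : Over X) (b b' : W.left ⟶ P) : app φ W (b * b') = app φ W b * app φ W b' :=
  congrArg (fun x => Additive.toMul (ULift.down x))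
    (map_add (φ.hom.app (op W)).hom (ULift.up (Additive.ofMul b)) (ULift.up (Additive.ofMul b')))

theorem app_res {W W' : Over X} (g : W' ⟶ W) (b : W.left ⟶ P) :
    app φ W' (g.left ≫ b) = g.left ≫ app φ W b :=
  congrArg (fun x => Additive.toMul (ULift.down x))
    (ConcreteCategory.congr_hom (φ.hom.naturality g.op) (ULift.up (Additive.ofMul b)))

/-- The universal value. -/
noncomputable def univ : X ⊗ P ⟶ Q := app φ (Over.mk (fst X P)) (snd X P)

theorem app_eq (W : Over X) (b : W.left ⟶ P) : app φ W b = lift W.hom b ≫ univ φ := by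
  let g : W ⟶ Over.mk (fst X P) := Over.homMk (lift W.hom b) (lift_fst _ _)
  have := app_res φ g (snd X P)
  rwa [show g.left ≫ snd X P = b from lift_snd _ _] at this

theorem univ_mul {Z : Over S} (a : Z ⟶ X) (b b' : Z ⟶ P) :
    lift a (b * b') ≫ univ φ = (lift a b ≫ univ φ) * (lift a b' ≫ univ φ) := by
  have := app_mul φ (Over.mk a) b b'
  rwa [app_eq, app_eq, app_eq] at this

/-- The homomorphism after base change to `X` attached to a section. -/
noncomputable def bcHom : Red.bc X.hom P ⟶ Red.bc X.hom Q :=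
  (Over.mapPullbackAdj X.hom).homEquiv (Red.bc X.hom P) Q
    (lift (Over.homMk (Red.bc X.hom P).hom rfl) (DSPtsLib.theta X.hom (𝟙 (Red.bc X.hom P))) ≫ univ φ)

theorem theta_bcHom {Y : Over X.left} (a : Y ⟶ Red.bc X.hom P) :
    DSPtsLib.theta X.hom (a ≫ bcHom φ) =
      lift (Over.homMk Y.hom rfl) (DSPtsLib.theta X.hom a) ≫ univ φ := by
  rw [DSPtsLib.theta_comp,
    show DSPtsLib.theta X.hom (bcHom φ) = _ from Equiv.symm_apply_apply _ _, ← Category.assoc, comp_lift,
    ← DSPtsLib.theta_comp, Category.comp_id]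
  congr 2
  exact Over.OverMorphism.ext (Over.w a)

theorem isMonHom_bcHom : IsMonHom (bcHom φ) :=
  isMonHom_of_mul _ fun Y a b => by
    apply (DSPtsLib.theta_bijective X.hom).1
    rw [DSPtsLib.theta_mul, theta_bcHom, theta_bcHom, theta_bcHom, DSPtsLib.theta_mul, univ_mul]

theorem eq_zero (h : bcHom φ = 1) : φ = 0 := by
  refine Sheaf.hom_ext (NatTrans.ext (funext fun W => ?_))
  ext x
  obtain ⟨W⟩ := W
  let b : W.left ⟶ P := x.down.toMul
  let Y : Over X.left := Over.mk W.hom.left
  let e : W.left ⟶ (Over.map X.hom).obj Y := Over.homMk (𝟙 _) (by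
    show 𝟙 _ ≫ W.hom.left ≫ X.hom = W.left.hom
    rw [Category.id_comp]; exact Over.w W.hom)
  let e' : (Over.map X.hom).obj Y ⟶ W.left := Over.homMk (𝟙 _) (by
    show 𝟙 _ ≫ W.left.hom = W.hom.left ≫ X.hom
    rw [Category.id_comp]; exact (Over.w W.hom).symm)
  obtain ⟨a, ha⟩ := (DSPtsLib.theta_bijective (H := P) (Y := Y) X.hom).2 (e' ≫ b)
  have h1 := theta_bcHom φ a
  have h0 : DSPtsLib.theta X.hom (1 : Y ⟶ Red.bc X.hom Q) = 1 := by
    have h := DSPtsLib.theta_mul X.hom (1 : Y ⟶ Red.bc X.hom Q) 1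
    rwa [_root_.one_mul, eq_comm, mul_eq_left] at h
  rw [h, MonObj.comp_one, h0, ha] at h1
  have h2 := congrArg (e ≫ ·) h1.symm
  simp only [MonObj.comp_one] at h2
  rw [← Category.assoc, comp_lift] at h2
  have e1 : e ≫ (Over.homMk Y.hom rfl : (Over.map X.hom).obj Y ⟶ X) = W.hom :=
    Over.OverMorphism.ext (Category.id_comp _)
  have e2 : e ≫ e' ≫ b = b := by
    rw [← Category.assoc, show e ≫ e' = 𝟙 _ from Over.OverMorphism.ext (Category.id_comp _), Category.id_comp]
  rw [e1, e2, ← app_eq] at h2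
  exact ULift.ext _ _ (congrArg Additive.ofMul h2)

theorem isZero_homSh
    (h : ∀ (X : Over S) (v : Red.bc X.hom P ⟶ Red.bc X.hom Q), IsMonHom v → v = 1) :
    IsZero (HomSh.homSh (QuotSh.J K S) (CGrpSh.pts K P) (CGrpSh.pts K Q)) := by
  rw [IsZero.iff_id_eq_zero]
  refine Sheaf.hom_ext (NatTrans.ext (funext fun X => ?_))
  ext φ
  exact eq_zero φ (h _ _ (isMonHom_bcHom φ))

end Groth.Agent.AbSchX.HomShZero
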