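import Groth.Agent.AbSchX.AbToTorus
import Groth.Agent.AbSchX.HomShZero
import Groth.Agent.AbSchX.HomShExact

/-! No homomorphisms between tori and abelian schemes, at the level of sheaves. -/

open CategoryTheory Limits AlgebraicGeometry MonoidalCategory CartesianMonoidalCategory

universe u

namespace Groth.Agent.AbSchX.HomShTorus

variable {S : Scheme.{u}} (T A : Over S) [GrpObj T] [IsCommMonObj T] [GrpObj A] [IsCommMonObj A]
  [Smooth A.hom] [IsProper A.hom]

theorem isZero_torus_abelian (hT : Red.IsTorus T) (hA : ∀ s : S, ConnectedSpace ↥(A.hom.fiber s)) :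
    IsZero (HomSh.homSh (QuotSh.J Scheme.fppfPrecoverage S) (CGrpSh.pts Scheme.fppfPrecoverage T)
      (CGrpSh.pts Scheme.fppfPrecoverage A)) := by
  haveI := AbBasic.geometricallyIntegral_of_smooth A hA
  exact HomShZero.isZero_homSh fun X v _ => TorusHom.bc_hom_eq_one T A hT X.hom v

theorem isZero_abelian_torus (hT : Red.IsTorus T) (hA : ∀ s : S, ConnectedSpace ↥(A.hom.fiber s)) :
    IsZero (HomSh.homSh (QuotSh.J Scheme.fppfPrecoverage S) (CGrpSh.pts Scheme.fppfPrecoverage A)
      (CGrpSh.pts Scheme.fppfPrecoverage T)) := by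
  haveI := AbBasic.geometricallyReduced_of_smooth A.hom
  haveI := H23.GeomConn.of_grp A hA
  exact HomShZero.isZero_homSh fun X v _ => AbToTorus.bc_hom_eq_one A T hT X.hom v

end Groth.Agent.AbSchX.HomShTorus
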