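import Groth.Agent.AbSchX.MulDeg
import Groth.Agent.AbSchX.KerPts
import Groth.Agent.GrpSchLib.KernelGrp
import Groth.Agent.GrpSchLib.Descent
import Groth.Agent.H23.RigidAb
import Groth.Agent.S7782
import Groth.Agent.S7785
import Groth.Agent.S7801

/-! An isogeny of degree `n` divides multiplication by `n`. -/

open CategoryTheory Limits AlgebraicGeometry MonoidalCategory CartesianMonoidalCategory MonObj

universe u

namespace Groth.Agent.AbSchX.IsogDual

variable {S : Scheme.{u}}

theorem isFinite_mul (X : Over S) [GrpObj X] [IsProper X.hom] [Flat X.hom] [LocallyOfFinitePresentation X.hom]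
    [GeometricallyReduced X.hom] [GeometricallyConnected X.hom] (n : ℤ) (hn : n ≠ 0) :
    IsFinite (𝟙 X ^ n).left ∧ Surjective (𝟙 X ^ n).left ∧ Flat (𝟙 X ^ n).left := by
  have hGI := AbBasic.geometricallyIntegral X
  have h : ∀ s : S, IsFinite (GrpSchLib.HomFibre.fib (𝟙 X ^ n) s).left ∧ Flat (GrpSchLib.HomFibre.fib (𝟙 X ^ n) s).left ∧
      Surjective (GrpSchLib.HomFibre.fib (𝟙 X ^ n) s).left := fun s => by
    haveI : IsProper (Red.bc (S.fromSpecResidueField s) X).hom := inferInstanceAs (IsProper (pullback.snd X.hom _))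
    haveI : GeometricallyIntegral (Red.bc (S.fromSpecResidueField s) X).hom :=
      inferInstanceAs (GeometricallyIntegral (pullback.snd X.hom _))
    show IsFinite ((Over.pullback _).map _).left ∧ Flat ((Over.pullback _).map _).left ∧
      Surjective ((Over.pullback _).map _).left
    rw [MulDeg.map_zpow]
    exact MulDeg.fibre_props (k := S.residueField s) (Red.bc (S.fromSpecResidueField s) X) n hn
  exact ⟨Fibrewise.isFinite_of_fibres (𝟙 X ^ n) fun s => (h s).1,
    Fibrewise.surjective_of_fibres (𝟙 X ^ n) fun s => (h s).2.2, Fibrewise.flat_of_fibres (𝟙 X ^ n) fun s => (h s).2.1⟩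

/-- Points of `X` with equal image under `f` have equal `n`-th powers. -/
theorem pow_eq_of_comp_eq {X Y : Over S} [GrpObj X] [IsCommMonObj X] [GrpObj Y] [IsSeparated Y.hom]
    (f : X ⟶ Y) [IsMonHom f] [IsFinite f.left] [Flat f.left] [LocallyOfFinitePresentation f.left]
    (n : ℕ) (hdeg : ∀ s : S, Scheme.Hom.finrank f.left (η[Y].left s) = n)
    {T : Over S} (x y : T ⟶ X) (h : x ≫ f = y ≫ f) : x ^ n = y ^ n := by
  obtain ⟨K, _, i, hi, _, -, hk⟩ := GrpSchLib.exists_kernel f
  haveI : Mono i := KerPts.mono hk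
  haveI : IsCommMonObj K := ⟨by
    rw [← cancel_mono i, Category.assoc, IsMonHom.mul_hom i, ← Category.assoc, ← BraidedCategory.braiding_naturality,
      Category.assoc, IsCommMonObj.mul_comm]⟩
  have hsq : IsPullback i.left K.hom f.left η[Y].left := hk.map (Over.forget S)
  haveI : IsFinite K.hom := MorphismProperty.of_isPullback hsq inferInstance
  haveI : Flat K.hom := MorphismProperty.of_isPullback hsq inferInstance
  haveI : LocallyOfFinitePresentation K.hom := MorphismProperty.of_isPullback hsq inferInstance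
  have hr : ∀ s : S, K.hom.finrank s = n := fun s => by
    have e : hsq.isoPullback.hom ≫ pullback.snd f.left η[Y].left = K.hom := hsq.isoPullback_hom_snd
    rw [← hdeg s, ← e, Scheme.Hom.finrank_comp_left_of_isIso]
    exact Scheme.Hom.finrank_pullback_snd f.left η[Y].left s
  obtain ⟨z, hz⟩ := KerPts.exists_lift hk (x * y⁻¹)
    (by rw [MonObj.mul_comp, GrpObj.inv_comp, h, _root_.mul_inv_cancel])
  have hz1 : z ^ n = 1 := S7782.result K n hr T z
  have h2 : (x * y⁻¹) ^ n = 1 := by rw [← hz, ← MonObj.pow_comp, hz1, MonObj.one_comp]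
  rw [mul_pow, inv_pow, mul_inv_eq_one] at h2
  exact h2

theorem main (X Y : Over S) [GrpObj X] [IsProper X.hom] [Flat X.hom] [LocallyOfFinitePresentation X.hom]
    [GeometricallyReduced X.hom] [GeometricallyConnected X.hom]
    [GrpObj Y] [IsProper Y.hom] [Flat Y.hom] [LocallyOfFinitePresentation Y.hom] [GeometricallyReduced Y.hom]
    [GeometricallyConnected Y.hom]
    (f : X ⟶ Y) [IsMonHom f] [IsFinite f.left] [Flat f.left] [Surjective f.left]
    (n : ℕ) (hn : 1 ≤ n) (hdeg : ∀ s : S, Scheme.Hom.finrank f.left (η[Y].left s) = n) :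
    (∃! g : Y ⟶ X, IsMonHom g ∧ f ≫ g = 𝟙 X ^ n) ∧
      ∀ g : Y ⟶ X, IsMonHom g → f ≫ g = 𝟙 X ^ n →
        g ≫ f = 𝟙 Y ^ n ∧ IsFinite g.left ∧ Flat g.left ∧ Surjective g.left := by
  haveI := S7785.result X
  haveI : LocallyOfFinitePresentation f.left := GrpSchLib.HomFibre.lfp_of_flat_lfp f
  have hcov : GrpSchLib.IsCover f := ⟨inferInstance, inferInstance, inferInstance⟩
  haveI := hcov.epi
  obtain ⟨_, _, _⟩ := hcov
  let P : X ⟶ X := 𝟙 X ^ n
  have hdesc : ∀ {Z : Scheme.{u}} (a b : Z ⟶ X.left), a ≫ f.left = b ≫ f.left → a ≫ P.left = b ≫ P.left := by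
    intro Z a b e
    let T : Over S := Over.mk (a ≫ X.hom)
    let a' : T ⟶ X := Over.homMk a rfl
    let b' : T ⟶ X := Over.homMk b (by
      show b ≫ X.hom = a ≫ X.hom
      rw [← Over.w f, ← reassoc_of% e])
    have := pow_eq_of_comp_eq f n hdeg a' b' (Over.OverMorphism.ext e)
    rw [← KerPts.comp_id_pow a', ← KerPts.comp_id_pow b'] at this
    exact congrArg CommaMorphism.left this
  let l := EffectiveEpi.desc f.left P.left fun {Z} a b e => hdesc a b e
  have hfac : f.left ≫ l = P.left := EffectiveEpi.fac _ _ _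
  have hw : l ≫ X.hom = Y.hom := by rw [← cancel_epi f.left, reassoc_of% hfac, Over.w P, Over.w f]
  let g : Y ⟶ X := Over.homMk l hw
  have hg : f ≫ g = 𝟙 X ^ n := Over.OverMorphism.ext hfac
  have hone : η[Y] ≫ g = η[X] := by
    rw [← IsMonHom.one_hom f, Category.assoc, hg, KerPts.comp_id_pow, MonObj.one_eq_one, one_pow]
  refine ⟨⟨g, ⟨H23.RigidAb.isMonHom_of_one g hone, hg⟩, fun g' hg' => ?_⟩, fun g hgm hg => ?_⟩
  · rw [← cancel_epi f, hg'.2, hg]
  · have e : g ≫ f = 𝟙 Y ^ n := by
      rw [← cancel_epi f, ← Category.assoc, hg, MonObj.pow_comp, Category.id_comp, KerPts.comp_id_pow]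
    have hn' : (n : ℤ) ≠ 0 := by omega
    have hX := isFinite_mul X n hn'
    have hY := isFinite_mul Y n hn'
    rw [zpow_natCast] at hX hY
    rw [← hg, Over.comp_left] at hX
    rw [← e, Over.comp_left] at hY
    haveI := hX.2.1
    haveI : Surjective g.left := Surjective.of_comp f.left g.left
    haveI := hY.1
    haveI : IsSeparated f.left := inferInstance
    haveI : IsFinite g.left := IsFinite.of_comp g.left f.left
    exact ⟨e, inferInstance, (S7801.result Y X g).1, inferInstance⟩

end Groth.Agent.AbSchX.IsogDual
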