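import Groth.Prelude.Def_Red
import Mathlib.Algebra.MonoidAlgebra.Basic
import Mathlib.Algebra.MvPolynomial.Basic
import Mathlib.RingTheory.Localization.Away.Basic
import Mathlib.AlgebraicGeometry.AffineSpace

/-! The split torus is open in affine space. -/

open CategoryTheory Limits AlgebraicGeometry

universe u

namespace Groth.Agent.AbSchX.LaurentLoc

variable (r : ℕ)

abbrev Z : Type u := ULift.{u} ℤ
abbrev L : Type u := MonoidAlgebra Z.{u} (Multiplicative (Fin r → ℤ))
abbrev P : Type u := MvPolynomial (ULift.{u} (Fin r)) Z.{u}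

/-- The exponent of a monomial. -/
def expo (d : ULift.{u} (Fin r) →₀ ℕ) : Fin r → ℤ := fun i => (d ⟨i⟩ : ℤ)

theorem expo_injective : Function.Injective (expo r) := fun a b h => by
  ext ⟨i⟩
  exact Int.ofNat_inj.1 (congrFun h i)

/-- The monomials as a morphism of monoids. -/
noncomputable def expoHom : Multiplicative (ULift.{u} (Fin r) →₀ ℕ) →* Multiplicative (Fin r → ℤ) :=
  AddMonoidHom.toMultiplicative
    { toFun := expo r
      map_zero' := by funext i; simp [expo]
      map_add' := fun a b => by funext i; simp [expo] }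

/-- Polynomials into Laurent polynomials. -/
noncomputable def incl : P.{u} r →+* L.{u} r :=
  MvPolynomial.eval₂Hom MonoidAlgebra.singleOneRingHom
    (fun i => MonoidAlgebra.single (expoHom r (Multiplicative.ofAdd (Finsupp.single i 1))) 1)

theorem incl_monomial (d : ULift.{u} (Fin r) →₀ ℕ) (c : Z.{u}) :
    incl r (MvPolynomial.monomial d c) = MonoidAlgebra.single (expoHom r (Multiplicative.ofAdd d)) c := by
  induction d using Finsupp.induction generalizing c with
  | zero =>
    rw [MvPolynomial.monomial_zero', incl, MvPolynomial.eval₂Hom_C]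
    simp [MonoidAlgebra.singleOneRingHom]
  | single_add i b d hi hb ih =>
    rw [ofAdd_add, map_mul, show MvPolynomial.monomial (Finsupp.single i b + d) c =
      (MvPolynomial.X i : P r) ^ b * MvPolynomial.monomial d c by
        rw [MvPolynomial.X_pow_eq_monomial, MvPolynomial.monomial_mul, one_mul], map_mul, map_pow, ih]
    rw [show incl r (MvPolynomial.X i) = MonoidAlgebra.single
      (expoHom r (Multiplicative.ofAdd (Finsupp.single i 1))) (1 : Z) from MvPolynomial.eval₂Hom_X' _ _ _,
      MonoidAlgebra.single_pow, one_pow, MonoidAlgebra.single_mul_single, one_mul, ← map_pow]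
    congr 3
    rw [← ofAdd_nsmul, Finsupp.smul_single, nsmul_eq_mul, mul_one]
    rfl

theorem incl_coeff (p : P.{u} r) (d : ULift.{u} (Fin r) →₀ ℕ) :
    (incl r p).coeff (expoHom r (Multiplicative.ofAdd d)) = p.coeff d := by
  induction p using MvPolynomial.induction_on' with
  | monomial e c =>
    classical
    rw [incl_monomial, MvPolynomial.coeff_monomial]
    by_cases h : e = d
    · subst h; simp
    · rw [if_neg h]
      exact Finsupp.single_eq_of_ne fun he =>
        h (expo_injective r (congrArg Multiplicative.toAdd he).symm)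
  | add p q hp hq => rw [map_add, MvPolynomial.coeff_add, ← hp, ← hq]; rfl

theorem incl_injective : Function.Injective (incl.{u} r) := fun p q h =>
  MvPolynomial.ext _ _ fun d => by rw [← incl_coeff, ← incl_coeff, h]

/-- The product of the variables. -/
noncomputable def prodX : P.{u} r := MvPolynomial.monomial (Finsupp.equivFunOnFinite.symm fun _ => 1) 1

theorem incl_prodX_pow (N : ℕ) :
    incl r (prodX r ^ N) = MonoidAlgebra.single (Multiplicative.ofAdd (fun _ : Fin r => (N : ℤ))) (1 : Z.{u}) := by
  rw [prodX, MvPolynomial.monomial_pow, incl_monomial, one_pow]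
  congr 1
  refine congrArg Multiplicative.ofAdd (funext fun i => ?_)
  simp [expo]

theorem isOpenImmersion : IsOpenImmersion (Spec.map (CommRingCat.ofHom (incl.{u} r))) := by
  letI : Algebra (P.{u} r) (L.{u} r) := (incl r).toAlgebra
  haveI : IsLocalization.Away (prodX.{u} r) (L.{u} r) := by
    constructor
    refine ⟨?_, ?_, fun {p q} h => ⟨1, by rw [incl_injective r h]⟩⟩
    · rintro ⟨_, N, rfl⟩
      show IsUnit (incl r (prodX r ^ N))
      rw [incl_prodX_pow]
      refine IsUnit.of_mul_eq_one (MonoidAlgebra.single (Multiplicative.ofAdd (fun _ : Fin r => -(N : ℤ))) 1) ?_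
      rw [MonoidAlgebra.single_mul_single, ← ofAdd_add, one_mul, MonoidAlgebra.one_def]
      congr 1
      refine congrArg Multiplicative.ofAdd (funext fun i => ?_)
      simp
    · intro z
      suffices h : ∃ N p, z * incl r (prodX r ^ N) = incl r p by
        obtain ⟨N, p, hp⟩ := h
        exact ⟨(p, ⟨prodX r ^ N, N, rfl⟩), hp⟩
      induction z using MonoidAlgebra.induction_linear with
      | zero => exact ⟨0, 0, by simp⟩
      | add a b ha hb =>
        obtain ⟨N, p, hp⟩ := ha
        obtain ⟨N', p', hp'⟩ := hb
        refine ⟨N + N', p * prodX r ^ N' + p' * prodX r ^ N, ?_⟩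
        simp only [pow_add, map_mul, map_add, ← hp, ← hp']
        ring
      | single m c =>
        refine ⟨∑ i, ((Multiplicative.toAdd m) i).natAbs,
          MvPolynomial.monomial (Finsupp.equivFunOnFinite.symm fun i =>
            ((Multiplicative.toAdd m) i.down + ((∑ j, ((Multiplicative.toAdd m) j).natAbs : ℕ) : ℤ)).toNat) c, ?_⟩
        rw [incl_prodX_pow, incl_monomial, MonoidAlgebra.single_mul_single, mul_one]
        congr 1
        refine Multiplicative.toAdd.injective (funext fun i => ?_)
        have h1 : ((Multiplicative.toAdd m) i).natAbs ≤ ∑ j, ((Multiplicative.toAdd m) j).natAbs :=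
          Finset.single_le_sum (f := fun j => ((Multiplicative.toAdd m) j).natAbs) (fun _ _ => Nat.zero_le _)
            (Finset.mem_univ i)
        simp only [Multiplicative.toAdd]
        simp [expoHom, expo]
        have h2 : ((∑ j, ((Multiplicative.toAdd m) j).natAbs : ℕ) : ℤ) = ∑ j, |(Multiplicative.toAdd m) j| := by
          push_cast; rfl
        omega
  exact IsOpenImmersion.of_isLocalization (prodX r)

/-- The inclusion, on schemes. -/
noncomputable def inclMap : (Red.diag (ULift.{u} ℤ) (Fin r → ℤ)).left ⟶ Spec (CommRingCat.of (P.{u} r)) :=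
  Spec.map (CommRingCat.ofHom (incl r))

/-- The open immersion of the split torus into affine space. -/
noncomputable def toAffine (S : Scheme.{u}) :
    Red.DS S (Fin r → ℤ) ⟶ Over.mk (𝔸(ULift.{u} (Fin r); S) ↘ S) :=
  Over.homMk ((pullbackSymmetry _ _).hom ≫
      pullback.map _ _ _ _ (𝟙 S) (inclMap r) (terminal.from _)
        (Subsingleton.elim _ _) (Subsingleton.elim _ _))
    (by
      show ((pullbackSymmetry _ _).hom ≫ pullback.map _ _ _ _ _ _ _ _ _) ≫ pullback.fst _ _ = pullback.snd _ _
      rw [Category.assoc, pullback.lift_fst, Category.comp_id, pullbackSymmetry_hom_comp_fst])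

theorem isOpenImmersion_toAffine (S : Scheme.{u}) : IsOpenImmersion (toAffine r S).left := by
  haveI : IsOpenImmersion (inclMap.{u} r) := isOpenImmersion.{u} r
  haveI : IsIso (terminal.from (Spec (CommRingCat.of (ULift.{u} ℤ)))) :=
    Iso.isIso_hom (specULiftZIsTerminal.uniqueUpToIso terminalIsTerminal)
  unfold toAffine
  simp only [Over.homMk_left]
  exact MorphismProperty.comp_mem @IsOpenImmersion _ _ inferInstance (Scheme.pullback_map_isOpenImmersion ..)

end Groth.Agent.AbSchX.LaurentLoc
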