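import Groth.Agent.AbSchX.Fibrewise
import Groth.Agent.AbSchX.AbBasic
import Groth.Agent.AVDegLib.MulN

/-! Multiplication by a non-zero integer on an abelian scheme is an isogeny of degree `|n| ^ (2g)`. -/

open CategoryTheory Limits AlgebraicGeometry MonoidalCategory CartesianMonoidalCategory MonObj

universe u

namespace Groth.Agent.AbSchX.MulDeg

theorem map_zpow {S T : Scheme.{u}} (σ : T ⟶ S) (X : Over S) [GrpObj X] (n : ℤ) :
    (Over.pullback σ).map (𝟙 X ^ n) = 𝟙 (Red.bc σ X) ^ n := by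
  show (Over.pullback σ).homMonoidHom (𝟙 X ^ n) = _
  rw [_root_.map_zpow]
  show ((Over.pullback σ).map (𝟙 X)) ^ n = _
  rw [CategoryTheory.Functor.map_id]

theorem fibre_props {k : Type u} [Field k] (A : Over (Spec (CommRingCat.of k))) [GrpObj A] [IsProper A.hom]
    [GeometricallyIntegral A.hom] (d : ℤ) (hd : d ≠ 0) :
    IsFinite (𝟙 A ^ d).left ∧ Flat (𝟙 A ^ d).left ∧ Surjective (𝟙 A ^ d).left :=
  AVDegLib.zpow_props (A := A) d hd

theorem main {S : Scheme.{u}} (X : Over S) [GrpObj X] [IsProper X.hom] [Flat X.hom] [LocallyOfFinitePresentation X.hom]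
    [GeometricallyReduced X.hom] [GeometricallyConnected X.hom] (g : S → ℕ)
    (hg : ∀ s : S, topologicalKrullDim ↥(X.hom.fiber s) = g s) (n : ℤ) (hn : n ≠ 0) :
    IsFinite (𝟙 X ^ n).left ∧ Flat (𝟙 X ^ n).left ∧ Surjective (𝟙 X ^ n).left ∧
      ∀ y : X.left, Scheme.Hom.finrank (𝟙 X ^ n).left y = n.natAbs ^ (2 * g (X.hom y)) := by
  have hGI := AbBasic.geometricallyIntegral X
  have hp : ∀ s : S, IsProper (Red.bc (S.fromSpecResidueField s) X).hom := fun s =>
    inferInstanceAs (IsProper (pullback.snd X.hom _))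
  have hi : ∀ s : S, GeometricallyIntegral (Red.bc (S.fromSpecResidueField s) X).hom := fun s =>
    inferInstanceAs (GeometricallyIntegral (pullback.snd X.hom _))
  have h : ∀ s : S, IsFinite (GrpSchLib.HomFibre.fib (𝟙 X ^ n) s).left ∧ Flat (GrpSchLib.HomFibre.fib (𝟙 X ^ n) s).left ∧
      Surjective (GrpSchLib.HomFibre.fib (𝟙 X ^ n) s).left := fun s => by
    haveI := hp s; haveI := hi s
    show IsFinite ((Over.pullback _).map _).left ∧ Flat ((Over.pullback _).map _).left ∧
      Surjective ((Over.pullback _).map _).left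
    rw [map_zpow]
    exact fibre_props (k := S.residueField s) (Red.bc (S.fromSpecResidueField s) X) n hn
  haveI hfin := Fibrewise.isFinite_of_fibres (𝟙 X ^ n) fun s => (h s).1
  haveI hfl := Fibrewise.flat_of_fibres (𝟙 X ^ n) fun s => (h s).2.1
  refine ⟨hfin, hfl, Fibrewise.surjective_of_fibres (𝟙 X ^ n) fun s => (h s).2.2, fun y => ?_⟩
  obtain ⟨z, hz⟩ := GrpSchLib.HomFibre.exists_incl y
  conv_lhs => rw [← hz, ← Fibrewise.finrank_fib]
  haveI := hp (X.hom y); haveI := hi (X.hom y)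
  show Scheme.Hom.finrank ((Over.pullback _).map _).left _ = _
  rw [map_zpow]
  exact AVDegLib.finrank_zpow (k := S.residueField (X.hom y)) (A := Red.bc (S.fromSpecResidueField (X.hom y)) X)
    (hg (X.hom y)) n hn z

end Groth.Agent.AbSchX.MulDeg
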