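import Groth.Agent.AbSchX.IsogDual
import Groth.Agent.AbSchX.BiextDiv
import Groth.Agent.AbSchX.HomShZero
import Groth.Agent.H23.GeomConn
import Groth.Agent.S7785
import Mathlib.AlgebraicGeometry.Sites.Fpqc
import Mathlib.CategoryTheory.Sites.EpiMono
import Groth.Prelude.Def_CGrpSh

/-! Faithfully flat homomorphisms are epimorphisms of fppf sheaves of points; abelian schemes are divisible. -/

open CategoryTheory Limits AlgebraicGeometry MonoidalCategory CartesianMonoidalCategory MonObj Opposite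

universe u

namespace Groth.Agent.AbSchX.PtsEpi

variable {S : Scheme.{u}}

theorem mem_J_of_fppf {U V : Over S} (w : V ⟶ U) [Flat w.left] [LocallyOfFinitePresentation w.left]
    [Surjective w.left] :
    Sieve.generate (Presieve.singleton w) ∈ QuotSh.J Scheme.fppfPrecoverage S U := by
  rw [GrothendieckTopology.mem_over_iff]
  have hm : Presieve.ofArrows (fun _ : PUnit.{u+1} => V.left) (fun _ => w.left) ∈
      Scheme.precoverage (@Flat ⊓ @LocallyOfFinitePresentation) U.left :=
    (Scheme.ofArrows_mem_precoverage_iff _).2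
      ⟨fun x => ⟨⟨⟩, w.left.surjective x⟩, fun _ => ⟨inferInstance, inferInstance⟩⟩
  refine GrothendieckTopology.superset_covering _ ?_ (Precoverage.generate_mem_toGrothendieck hm)
  rintro Z _ ⟨Y, a, _, ⟨i⟩, rfl⟩
  rw [Sieve.overEquiv_iff]
  exact ⟨V, Over.homMk a (by simp), w, Presieve.singleton_self w, by ext; simp⟩

theorem epi_ptsMap {G H : Over S} [GrpObj G] [IsCommMonObj G] [GrpObj H] [IsCommMonObj H] (π : G ⟶ H)
    [IsMonHom π] [Flat π.left] [LocallyOfFinitePresentation π.left] [Surjective π.left] :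
    Epi (CGrpSh.ptsMap Scheme.fppfPrecoverage π) := by
  refine (Sheaf.isLocallySurjective_iff_epi' (φ := CGrpSh.ptsMap Scheme.fppfPrecoverage π)).1 ⟨fun {T} y => ?_⟩
  let b : T ⟶ H := y.down.toMul
  let P : Over S := Over.mk (pullback.fst b.left π.left ≫ T.hom)
  let w : P ⟶ T := Over.homMk (pullback.fst b.left π.left) rfl
  haveI : Flat w.left := inferInstanceAs (Flat (pullback.fst b.left π.left))
  haveI : LocallyOfFinitePresentation w.left :=
    inferInstanceAs (LocallyOfFinitePresentation (pullback.fst b.left π.left))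
  haveI : Surjective w.left := inferInstanceAs (Surjective (pullback.fst b.left π.left))
  refine GrothendieckTopology.superset_covering _ ?_ (mem_J_of_fppf w)
  rintro W f ⟨V, a, _, ⟨i⟩, rfl⟩
  let x : P ⟶ G := Over.homMk (pullback.snd b.left π.left) (by
    show pullback.snd b.left π.left ≫ G.hom = pullback.fst b.left π.left ≫ T.hom
    rw [← Over.w π, ← pullback.condition_assoc, Over.w b])
  refine ⟨ULift.up (Additive.ofMul (a ≫ x)), ULift.ext _ _ ?_⟩
  show Additive.ofMul ((a ≫ x) ≫ π) = Additive.ofMul ((a ≫ w) ≫ b)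
  rw [Category.assoc, Category.assoc, show x ≫ π = w ≫ b from Over.OverMorphism.ext pullback.condition.symm]

theorem isMonHom_zpow (A : Over S) [GrpObj A] [IsCommMonObj A] (n : ℤ) : IsMonHom (𝟙 A ^ n : A ⟶ A) :=
  HomShZero.isMonHom_of_mul _ fun T x y => by
    simp only [GrpObj.comp_zpow, Category.comp_id]
    exact mul_zpow x y n

theorem zsmul_id_eq {A : Over S} [GrpObj A] [IsCommMonObj A] (n : ℤ) :
    haveI := isMonHom_zpow A n
    n • 𝟙 (CGrpSh.pts Scheme.fppfPrecoverage A) = CGrpSh.ptsMap Scheme.fppfPrecoverage (𝟙 A ^ n) := by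
  refine Sheaf.hom_ext (NatTrans.ext (funext fun T => AddCommGrpCat.ext fun x => ?_))
  refine (BiextDiv.app_zsmul_id (CGrpSh.pts Scheme.fppfPrecoverage A) n T.unop x).trans (ULift.ext _ _ ?_)
  show n • x.down = Additive.ofMul (x.down.toMul ≫ (𝟙 A ^ n))
  rw [GrpObj.comp_zpow, Category.comp_id]
  rfl

/-- An abelian scheme is divisible. -/
theorem epi_zsmul (A : Over S) [GrpObj A] [IsCommMonObj A] [Smooth A.hom] [IsProper A.hom]
    (hA : ∀ s : S, ConnectedSpace ↥(A.hom.fiber s)) (n : ℤ) (hn : n ≠ 0) :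
    Epi (n • 𝟙 (CGrpSh.pts Scheme.fppfPrecoverage A)) := by
  haveI := AbBasic.geometricallyReduced_of_smooth A.hom
  haveI := H23.GeomConn.of_grp A hA
  rw [zsmul_id_eq]
  obtain ⟨h1, h2, h3⟩ := IsogDual.isFinite_mul A n hn
  haveI := GrpSchLib.HomFibre.lfp_of_flat_lfp (𝟙 A ^ n)
  haveI := isMonHom_zpow A n
  exact epi_ptsMap (𝟙 A ^ n)

end Groth.Agent.AbSchX.PtsEpi
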