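import Groth.Agent.AVIdx.EulerHom
import Groth.Agent.IntNum47.Binom
import Mathlib.RingTheory.Polynomial.Pochhammer

/-! Riemann–Roch on an abelian variety: `g! χ(L) = (L^g)`. -/

universe u

open CategoryTheory CategoryTheory.Limits MonoidalCategory CartesianMonoidalCategory MonObj GrpObj AlgebraicGeometry

namespace Groth.Agent.AbSchX.SelfInt

open Groth.Agent Groth.Agent.H23
open scoped Groth.Agent.H23.PicMul

/-- The top coefficient of a sum of multiset numbers. -/
theorem factorial_mul_of_sum {g : ℕ} {c : ℤ} {a : ℕ → ℤ}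
    (h : ∀ m : ℕ, (m : ℤ) ^ g * c = ∑ i ∈ Finset.range (g + 1), ((m + i - 1).choose i : ℤ) * a i) :
    ((Nat.factorial g : ℕ) : ℤ) * c = a g := by
  let p : Polynomial ℚ := ∑ i ∈ Finset.range (g + 1), Polynomial.C ((a i : ℚ) / (Nat.factorial i : ℕ)) * ascPochhammer ℚ i
  have hp : p = Polynomial.C (c : ℚ) * Polynomial.X ^ g := by
    refine Polynomial.eq_of_infinite_eval_eq _ _ (Set.Infinite.mono ?_
      (Set.infinite_range_of_injective (f := fun n : ℕ => (n : ℚ)) Nat.cast_injective))
    rintro _ ⟨m, rfl⟩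
    show Polynomial.eval _ _ = Polynomial.eval _ _
    rw [Polynomial.eval_finsetSum, Polynomial.eval_mul, Polynomial.eval_C, Polynomial.eval_pow, Polynomial.eval_X]
    have hm := congrArg (Int.cast : ℤ → ℚ) (h m)
    push_cast at hm
    rw [mul_comm, hm]
    refine Finset.sum_congr rfl fun i _ => ?_
    rw [Polynomial.eval_mul, Polynomial.eval_C, ← ascPochhammer_eval_cast, ascPochhammer_nat_eq_ascFactorial,
      Nat.ascFactorial_eq_factorial_mul_choose', Nat.cast_mul]
    have : ((Nat.factorial i : ℕ) : ℚ) ≠ 0 := Nat.cast_ne_zero.2 (Nat.factorial_ne_zero i)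
    field_simp
  have hc := congrArg (fun q => Polynomial.coeff q g) hp
  simp only [p, Polynomial.finsetSum_coeff, Polynomial.coeff_C_mul, Polynomial.coeff_X_pow, if_true,
    _root_.mul_one] at hc
  rw [Finset.sum_eq_single g] at hc
  · rw [show (ascPochhammer ℚ g).coeff g = 1 by
      simpa [Polynomial.leadingCoeff, ascPochhammer_natDegree] using (monic_ascPochhammer ℚ g).leadingCoeff] at hc
    have : ((Nat.factorial g : ℕ) : ℚ) ≠ 0 := Nat.cast_ne_zero.2 (Nat.factorial_ne_zero g)
    rw [_root_.mul_one, div_eq_iff this] at hc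
    exact_mod_cast (show ((((Nat.factorial g : ℕ) : ℤ) * c : ℤ) : ℚ) = ((a g : ℤ) : ℚ) by push_cast; rw [hc]; ring)
  · intro i hi hne
    rw [Finset.mem_range] at hi
    rw [Polynomial.coeff_eq_zero_of_natDegree_lt (by rw [ascPochhammer_natDegree]; omega), mul_zero]
  · intro hn
    exact absurd (Finset.self_mem_range_succ g) hn

theorem main (k : Type u) [Field k] (X : Over (Spec (CommRingCat.of k)))
    [GrpObj X] [IsProper X.hom] [GeometricallyIntegral X.hom] (g : ℕ) (hg : topologicalKrullDim ↥X.left = g)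
    (L M : X.left.Modules) (hL : PicF.IsInvertible L) (hLM : Nonempty (CohB1.tensorMod L M ≅ Coh.structureModule X.left)) :
    ((Nat.factorial g : ℕ) : ℤ) * @Curv2.euler k _ X.left ⟨X.hom⟩ L =
      @FGA.intNum k _ X.left ⟨X.hom⟩ g g (fun _ : Fin g => M) (Coh.structureModule X.left) := by
  letI : X.left.Over (Spec (CommRingCat.of k)) := ⟨X.hom⟩
  haveI : IsProper (X.left ↘ Spec (CommRingCat.of k)) := ‹IsProper X.hom›
  haveI : IsLocallyNoetherian X.left := LocallyOfFiniteType.isLocallyNoetherian X.hom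
  obtain ⟨e⟩ := hLM
  have hM := IntNum47.isInvertible_of_inverse hL e
  refine factorial_mul_of_sum (a := fun i => FGA.intNum k X.left g (fun _ : Fin i => M) (Coh.structureModule X.left))
    fun m => ?_
  rw [← IntNum47.euler_pow_eq_sum k hg.le hL hM e QCoh.isCoh_structureModule'
    ((topologicalKrullDim_subspace_le _ _).trans hg.le) m]
  have hT := PicMul.isInvertible_tensorPow hL m
  rw [IntNum47.eulerCharLE_eq k hg.le (AmpleVan.isCoh_tensor (AmpleVan.isCoh_invertible hT)
    QCoh.isCoh_structureModule').1]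
  have hc : PicF.IsInvertibleCl (PicF.cl L) := ⟨L, rfl, hL⟩
  have h := AVIdx.chiCl_pow_mul hg hc (q := 1) ⟨_, rfl, PicLoc.isInvertible_structureModule X.left⟩ AVIdx.isAdd_one m
  rw [_root_.mul_one, ← PicMul.cl_tensorPow, AVIdx.chiCl_cl, AVIdx.chiCl_cl] at h
  rw [← h]
  refine (AVIdx.chiCl_cl k X.left _).symm.trans ((congrArg (AVIdx.chiCl k X.left) ?_).trans (AVIdx.chiCl_cl k X.left _))
  rw [show PicF.cl (CohB1.tensorMod (CohB1.tensorPow L m) (Coh.structureModule X.left)) =
    PicF.cl (CohB1.tensorPow L m) * PicF.cl (Coh.structureModule X.left) from rfl, ← PicMul.one_def, _root_.mul_one]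

end Groth.Agent.AbSchX.SelfInt
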