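import Groth.Agent.AbSchX.LaurentLoc
import Groth.Agent.GrpSchLib.HomUnitLocus
import Groth.Agent.GrpSchLib.MultTypeBC
import Groth.Agent.H23.RatProductK
import Groth.Agent.H23.RigidGamma

/-! Homomorphisms from tori to abelian schemes are trivial. -/

open CategoryTheory Limits AlgebraicGeometry MonoidalCategory CartesianMonoidalCategory MonObj

universe u

namespace Groth.Agent.AbSchX.TorusHom

/-- A homomorphism from a split torus over a field to a proper geometrically integral group is trivial. -/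
theorem split_field {K : Type u} [Field K] (r : ℕ) {A : Over (Spec (CommRingCat.of K))} [GrpObj A]
    [IsProper A.hom] [GeometricallyIntegral A.hom]
    (v : Red.DS (Spec (CommRingCat.of K)) (Fin r → ℤ) ⟶ A) [IsMonHom v] : v = 1 := by
  haveI := LaurentLoc.isOpenImmersion_toAffine r (Spec (CommRingCat.of K))
  let X := H23.RatProductK.affine K (ULift.{u} (Fin r))
  haveI : Smooth X.hom := H23.RatProductK.smooth_affine (K := K) (ULift.{u} (Fin r))
  haveI : IsSeparated X.hom := inferInstanceAs (IsSeparated (pullback.fst _ _))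
  haveI : GeometricallyIntegral X.hom :=     inferInstanceAs (GeometricallyIntegral (𝔸(ULift.{u} (Fin r); Spec (CommRingCat.of K)) ↘ _))
  haveI : Nonempty (Red.DS (Spec (CommRingCat.of K)) (Fin r → ℤ)).left :=
    ⟨η[Red.DS (Spec (CommRingCat.of K)) (Fin r → ℤ)].left (IsLocalRing.closedPoint K)⟩
  obtain ⟨g, hg⟩ := H23.RatProduct.exists_extension' (LaurentLoc.toAffine r _ : _ ⟶ X) v
  obtain ⟨a, ha⟩ := H23.RatProductK.affine_const (K := K) (ULift.{u} (Fin r)) g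
  rw [ha, ← Category.assoc, comp_toUnit] at hg
  have h1 := (inferInstance : IsMonHom v).one_hom
  rw [← hg, ← Category.assoc, toUnit_unique (η[Red.DS _ (Fin r → ℤ)] ≫ toUnit _) (𝟙 _), Category.id_comp] at h1
  rw [← hg, Hom.one_def]
  congr 1

variable {S : Scheme.{u}}

theorem comp_eq_bc {U : Scheme.{u}} (gU : U ⟶ S) {H G : Over S} [GrpObj H] [GrpObj G] (u : H ⟶ G)
    {T : Scheme.{u}} (σ : T ⟶ U) (h : GrpSchLib.HomUnitLocus.Triv ((Over.pullback gU).map u) σ) :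
    GrpSchLib.HomUnitLocus.Triv u (σ ≫ gU) := by
  intro Y q x
  let Y' : Over U := Over.mk (q.left ≫ σ)
  let e : Y ⟶ (Over.map gU).obj Y' := Over.homMk (𝟙 _) (by
    show 𝟙 _ ≫ (q.left ≫ σ) ≫ gU = Y.hom
    rw [Category.id_comp, Category.assoc]; exact Over.w q)
  let e' : (Over.map gU).obj Y' ⟶ Y := Over.homMk (𝟙 _) (by
    show 𝟙 _ ≫ Y.hom = (q.left ≫ σ) ≫ gU
    rw [Category.id_comp, Category.assoc]; exact (Over.w q).symm)
  have hee : e ≫ e' = 𝟙 _ := Over.OverMorphism.ext (Category.id_comp _)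
  obtain ⟨a, ha⟩ := (DSPtsLib.theta_bijective (H := H) (Y := Y') gU).2 (e' ≫ x)
  have hc := GrpSchLib.HomUnitLocus.theta_comp_map gU Y' a u
  rw [h Y' (Over.homMk q.left rfl) a, GrpSchLib.HomUnitLocus.theta_one, ha] at hc
  have := congrArg (e ≫ ·) hc
  simp only [MonObj.comp_one, Category.assoc] at this
  rw [reassoc_of% hee] at this
  exact this.symm

theorem triv_field {K : Type u} [Field K] {H G : Over S} [GrpObj H] [GrpObj G] (u : H ⟶ G) [IsMonHom u]
    [IsProper G.hom] [GeometricallyIntegral G.hom] {r : ℕ} (b : Spec (CommRingCat.of K) ⟶ S)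
    (e : Grp.mk (Red.bc b H) ≅ Grp.mk (Red.DS (Spec (CommRingCat.of K)) (Fin r → ℤ))) :
    GrpSchLib.HomUnitLocus.Triv u b := by
  apply GrpSchLib.HomUnitLocus.triv_of_map_eq_one
  haveI : IsProper (Red.bc b G).hom := inferInstanceAs (IsProper (pullback.snd G.hom b))
  haveI : GeometricallyIntegral (Red.bc b G).hom := inferInstanceAs (GeometricallyIntegral (pullback.snd G.hom b))
  haveI : IsMonHom e.inv.hom.hom := e.inv.hom.isMonHom_hom
  have hz : e.hom.hom.hom ≫ e.inv.hom.hom = 𝟙 (Red.bc b H) := congrArg (fun h => h.hom.hom) e.hom_inv_id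
  haveI : IsMonHom (e.inv.hom.hom ≫ (Over.pullback b).map u) := inferInstance
  rw [← Category.id_comp ((Over.pullback b).map u), ← hz, Category.assoc,
    split_field r (e.inv.hom.hom ≫ (Over.pullback b).map u), MonObj.comp_one]

theorem triv_piece {K : Type u} [Field K] {H G : Over S} [GrpObj H] [GrpObj G] (u : H ⟶ G) [IsMonHom u]
    [IsProper G.hom] [GeometricallyIntegral G.hom] {r : ℕ} {U : Scheme.{u}} (gU : U ⟶ S)
    (e : Grp.mk (Red.bc gU H) ≅ Grp.mk (Red.DS U (Fin r → ℤ))) (σ : Spec (CommRingCat.of K) ⟶ U) :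
    GrpSchLib.HomUnitLocus.Triv u (σ ≫ gU) := by
  obtain ⟨e₁⟩ := GrpSchLib.MultTypeBC.bc_bc σ gU H
  obtain ⟨e₂⟩ := GrpSchLib.MultTypeBC.bc_iso σ e
  obtain ⟨e₃⟩ := GrpSchLib.MultTypeBC.bc_DS σ (Fin r → ℤ)
  exact triv_field u (σ ≫ gU) (e₁.symm ≪≫ e₂ ≪≫ e₃)

theorem triv_two {K : Type u} [Field K] {T A : Over S} [GrpObj T] [GrpObj A] {X : Scheme.{u}} (g : X ⟶ S)
    (v : Red.bc g T ⟶ Red.bc g A) [IsMonHom v] [IsProper (Red.bc g A).hom] [GeometricallyIntegral (Red.bc g A).hom]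
    {r : ℕ} {U : Scheme.{u}} (gU : U ⟶ S) (e : Grp.mk (Red.bc gU T) ≅ Grp.mk (Red.DS U (Fin r → ℤ)))
    (σ₁ : Spec (CommRingCat.of K) ⟶ X) (σ₂ : Spec (CommRingCat.of K) ⟶ U) (h : σ₁ ≫ g = σ₂ ≫ gU) :
    GrpSchLib.HomUnitLocus.Triv v σ₁ := by
  obtain ⟨e₁⟩ := GrpSchLib.MultTypeBC.bc_bc σ₁ g T
  obtain ⟨e₂⟩ := GrpSchLib.MultTypeBC.bc_congr h T
  obtain ⟨e₃⟩ := GrpSchLib.MultTypeBC.bc_bc σ₂ gU T
  obtain ⟨e₄⟩ := GrpSchLib.MultTypeBC.bc_iso σ₂ e
  obtain ⟨e₅⟩ := GrpSchLib.MultTypeBC.bc_DS σ₂ (Fin r → ℤ)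
  exact triv_field v σ₁ (e₁ ≪≫ e₂ ≪≫ e₃.symm ≪≫ e₄ ≪≫ e₅)

/-- Every homomorphism from a torus to an abelian scheme is trivial. -/
theorem hom_eq_one (T A : Over S) [GrpObj T] (hT : Red.IsTorus T) [GrpObj A] [IsProper A.hom]
    [GeometricallyIntegral A.hom] (f : T ⟶ A) [IsMonHom f] : f = 1 := by
  obtain ⟨S', g, hfl, hsurj, hcov, hloc⟩ := hT
  have hH : SGA3x.IsMultTypeFT T := ⟨S', g, hfl, hsurj, hcov, fun s' => by
    obtain ⟨U, hs, r, he⟩ := hloc s'
    exact ⟨U, hs, Fin r → ℤ, inferInstance, Module.Finite.iff_addGroup_fg.1 inferInstance, he⟩⟩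
  obtain ⟨W, -, hW, hWt⟩ := GrpSchLib.HomUnitLocus.main (u := f) hH (Or.inr inferInstance)
  have htop : ∀ s, s ∈ W := fun s => by
    obtain ⟨s', rfl⟩ := g.surjective s
    obtain ⟨U, hs, r, ⟨e⟩⟩ := hloc s'
    let x : (U : Scheme.{u}) := ⟨s', hs⟩
    let σ := (U : Scheme.{u}).fromSpecResidueField x
    have h := triv_piece (K := ↑((U : Scheme.{u}).residueField x)) f (U.ι ≫ g) e σ
    rw [GrpSchLib.HomUnitLocus.triv_iff_of_field] at h
    have hp : (σ ≫ U.ι ≫ g) (IsLocalRing.closedPoint _) = g s' := by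
      show g (U.ι (σ _)) = g s'
      rw [show σ (IsLocalRing.closedPoint _) = x from Scheme.fromSpecResidueField_apply _ _]
      rfl
    rw [hp] at h
    exact (hW _).2 h
  obtain rfl : W = ⊤ := eq_top_iff.2 fun s _ => htop s
  let q : T ⟶ Over.mk (⊤ : S.Opens).ι := Over.homMk (T.hom ≫ S.topIso.inv) (by
    show (T.hom ≫ S.topIso.inv) ≫ S.topIso.hom = T.hom
    rw [Category.assoc, Iso.inv_hom_id, Category.comp_id])
  have := hWt T q (𝟙 T)
  rwa [Category.id_comp] at this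

end Groth.Agent.AbSchX.TorusHom
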