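import Groth.Agent.AbSchX.TorusHom

/-! Homomorphisms from tori to abelian schemes are trivial after every base change. -/

open CategoryTheory Limits AlgebraicGeometry MonoidalCategory CartesianMonoidalCategory MonObj

universe u

namespace Groth.Agent.AbSchX.TorusHom

variable {S : Scheme.{u}}

theorem bc_hom_eq_one (T A : Over S) [GrpObj T] (hT : Red.IsTorus T) [GrpObj A] [IsProper A.hom]
    [GeometricallyIntegral A.hom] {X : Scheme.{u}} (g : X ⟶ S) (v : Red.bc g T ⟶ Red.bc g A) [IsMonHom v] :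
    v = 1 := by
  haveI : IsProper (Red.bc g A).hom := inferInstanceAs (IsProper (pullback.snd A.hom g))
  haveI : GeometricallyIntegral (Red.bc g A).hom := inferInstanceAs (GeometricallyIntegral (pullback.snd A.hom g))
  obtain ⟨S', g₀, hfl, hsurj, hcov, hloc⟩ := hT
  have hH : SGA3x.IsMultTypeFT T := ⟨S', g₀, hfl, hsurj, hcov, fun s' => by
    obtain ⟨U, hs, r, he⟩ := hloc s'
    exact ⟨U, hs, Fin r → ℤ, inferInstance, Module.Finite.iff_addGroup_fg.1 inferInstance, he⟩⟩
  obtain ⟨W, -, hW, hWt⟩ := GrpSchLib.HomUnitLocus.main (u := v) (GrpSchLib.MultTypeBC.isMultTypeFT_bc g hH)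
    (Or.inr inferInstance)
  have htop : ∀ x, x ∈ W := fun x => by
    obtain ⟨s', hs'⟩ := g₀.surjective (g x)
    obtain ⟨U, hs, r, ⟨e⟩⟩ := hloc s'
    let y : (U : Scheme.{u}) := ⟨s', hs⟩
    obtain ⟨z, hz1, -⟩ := Scheme.Pullback.exists_preimage_pullback (f := g) (g := U.ι ≫ g₀) x y
      (by rw [Scheme.Hom.comp_apply]; exact hs'.symm)
    let τ := (pullback g (U.ι ≫ g₀)).fromSpecResidueField z
    let σ₁ := τ ≫ pullback.fst g (U.ι ≫ g₀)
    let σ₂ := τ ≫ pullback.snd g (U.ι ≫ g₀)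
    have hσ : σ₁ ≫ g = σ₂ ≫ U.ι ≫ g₀ := by simp only [σ₁, σ₂, Category.assoc, pullback.condition]
    have h := triv_two (K := ↑((pullback g (U.ι ≫ g₀)).residueField z)) g v (U.ι ≫ g₀) e σ₁ σ₂ hσ
    replace h := (GrpSchLib.HomUnitLocus.triv_iff_of_field (K := ↑((pullback g (U.ι ≫ g₀)).residueField z)) (u := v) σ₁).1 h
    have hp : σ₁ (IsLocalRing.closedPoint _) = x := by
      show pullback.fst g (U.ι ≫ g₀) (τ _) = x
      rw [show τ (IsLocalRing.closedPoint _) = z from Scheme.fromSpecResidueField_apply _ _, hz1]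
    rw [hp] at h
    exact (hW _).2 h
  obtain rfl : W = ⊤ := eq_top_iff.2 fun x _ => htop x
  let q : Red.bc g T ⟶ Over.mk (⊤ : X.Opens).ι := Over.homMk ((Red.bc g T).hom ≫ X.topIso.inv) (by
    show ((Red.bc g T).hom ≫ X.topIso.inv) ≫ X.topIso.hom = (Red.bc g T).hom
    rw [Category.assoc, Iso.inv_hom_id, Category.comp_id])
  have := hWt _ q (𝟙 _)
  rwa [Category.id_comp] at this

end Groth.Agent.AbSchX.TorusHom
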