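import Groth.Agent.NonAbLib.EtaleNormal
import Groth.Agent.H23.FinCondSch
import Groth.Agent.HTopAwn.Normal
import Mathlib.AlgebraicGeometry.Morphisms.FormallyUnramified
import Mathlib.AlgebraicGeometry.ValuativeCriterion

/-! Rational sections of separated unramified morphisms to normal schemes. -/

set_option autoImplicit false
set_option linter.style.haveILetI false
universe u

open CategoryTheory CategoryTheory.Limits AlgebraicGeometry TopologicalSpace

namespace Groth.Agent.AbSchX.UnramNormal

/-- An unramified algebra with a point in the fraction field of a normal domain has a section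
near any prime to which the point specialises. -/
theorem exists_algHom_away {R A K : Type u} [CommRing R] [IsDomain R] [IsIntegrallyClosed R] [CommRing A]
    [Algebra R A] [Algebra.FiniteType R A] [Algebra.FormallyUnramified R A] [Field K] [Algebra R K]
    [IsFractionRing R K] (ψ : A →ₐ[R] K) (q : Ideal A) [q.IsPrime] (hq : RingHom.ker ψ ≤ q) :
    ∃ (g : R), g ∉ q.comap (algebraMap R A) ∧ ∃ (φ : A →ₐ[R] Localization.Away g)
      (l : Localization.Away g →ₐ[R] K), l.comp φ = ψ := by
  have : Algebra.IsUnramifiedAt R q := Algebra.FormallyUnramified.comp R A _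
  obtain ⟨f, hfq, P, π, hπ⟩ := Algebra.IsUnramifiedAt.exists_hasStandardEtaleSurjectionOn (R := R) q
  let Af := Localization.Away f
  have hf0 : ψ f ≠ 0 := fun h => hfq (hq h)
  let ψf : Af →ₐ[R] K := IsLocalization.Away.liftAlgHom f (f := ψ) (IsUnit.mk0 _ hf0)
  have hψf : ∀ a, ψf (algebraMap A Af a) = ψ a := fun a =>
    IsLocalization.Away.lift_eq f (IsUnit.mk0 _ hf0) a
  haveI hqf : (q.map (algebraMap A Af)).IsPrime := IsLocalization.isPrime_of_isPrime_disjoint (Submonoid.powers f) Af q
    ‹_› ((Ideal.disjoint_powers_iff_notMem_of_isPrime _).mpr hfq)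
  have hqf' : (q.map (algebraMap A Af)).comap (algebraMap A Af) = q :=
    IsLocalization.under_map_of_isPrime_disjoint (Submonoid.powers f) Af ‹_›
      ((Ideal.disjoint_powers_iff_notMem_of_isPrime _).mpr hfq)
  have hker : RingHom.ker ψf ≤ q.map (algebraMap A Af) := fun y hy => by
    obtain ⟨⟨a, s⟩, ha⟩ := IsLocalization.surj (Submonoid.powers f) y
    have h0 : ψ a = 0 := by
      rw [← hψf, ← ha, map_mul, show ψf y = 0 from hy, zero_mul]
    have h1 : y * algebraMap A Af s ∈ q.map (algebraMap A Af) := ha ▸ Ideal.mem_map_of_mem _ (hq h0)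
    exact (Ideal.IsPrime.mem_or_mem hqf h1).resolve_right fun h =>
      hqf.ne_top (Ideal.eq_top_of_isUnit_mem _ h (IsLocalization.map_units Af s))
  haveI : ((q.map (algebraMap A Af)).comap π).IsPrime := Ideal.comap_isPrime _ _
  obtain ⟨g, hg, φ, l, hl⟩ := Groth.Agent.NonAbLib.exists_algHom_away (ψf.comp π)
    ((q.map (algebraMap A Af)).comap π) (fun y hy => hker hy)
  have hlinj : Function.Injective l := by
    have hg0 : g ≠ 0 := fun h => hg (h ▸ zero_mem _)
    have he : l.toRingHom.comp (algebraMap R (Localization.Away g)) = algebraMap R K := l.comp_algebraMap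
    refine (injective_iff_map_eq_zero l).2 fun z hz => ?_
    obtain ⟨⟨a, s⟩, ha⟩ := IsLocalization.surj (Submonoid.powers g) z
    have h0 : algebraMap R K a = 0 := by
      rw [← he, RingHom.comp_apply, ← ha, map_mul]
      show l z * _ = 0
      rw [hz, zero_mul]
    rw [IsFractionRing.to_map_eq_zero_iff] at h0
    subst h0
    rw [map_zero] at ha
    exact (IsLocalization.map_units (Localization.Away g) s).mul_left_eq_zero.1 ha
  let φf : Af →ₐ[R] Localization.Away g := AlgHom.liftOfSurjective π hπ φ fun y hy => hlinj (by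
    rw [map_zero]
    have := AlgHom.congr_fun hl y
    rw [AlgHom.comp_apply, AlgHom.comp_apply, show π y = 0 from hy, map_zero] at this
    exact this)
  have hφf : l.comp φf = ψf := by
    refine AlgHom.ext fun y => ?_
    obtain ⟨y, rfl⟩ := hπ y
    rw [AlgHom.comp_apply, show φf (π y) = φ y from AlgHom.liftOfSurjective_apply π hπ φ _ y]
    exact AlgHom.congr_fun hl y
  refine ⟨g, fun hmem => hg ?_, φf.comp (IsScalarTower.toAlgHom R A Af), l, ?_⟩
  · show π (algebraMap R _ g) ∈ q.map (algebraMap A Af)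
    rw [π.commutes, IsScalarTower.algebraMap_apply R A Af]
    exact Ideal.mem_map_of_mem _ hmem
  · refine AlgHom.ext fun a => ?_
    exact (AlgHom.congr_fun hφf _).trans (hψf a)

variable {X Y : Scheme.{u}} [AlgebraicGeometry.IsIntegral X]

/-- A section over the generic point of an unramified morphism extends near any point to which it
specialises. -/
theorem exists_lift_nhd (hX : Pi1.IsNormalScheme X) (g : Y ⟶ X) [FormallyUnramified g] [LocallyOfFiniteType g]
    (t : Spec X.functionField ⟶ Y) (ht : t ≫ g = X.fromSpecStalk (genericPoint X))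
    (e : Y) (he : ∀ z : Spec X.functionField, t z ⤳ e) :
    ∃ (W : Scheme.{u}) (j : W ⟶ X) (_ : IsOpenImmersion j), g e ∈ Set.range j ∧
      ∃ σ : W ⟶ Y, σ ≫ g = j ∧ ∀ z : Spec X.functionField ⟶ W,
        z ≫ j = X.fromSpecStalk (genericPoint X) → z ≫ σ = t := by
  obtain ⟨U, hU, heU, -⟩ := exists_isAffineOpen_mem_and_subset (x := g e) (U := ⊤) trivial
  obtain ⟨V, hV, heV, hVU⟩ := exists_isAffineOpen_mem_and_subset (x := e) (U := g ⁻¹ᵁ U) heU
  have hη : genericPoint X ∈ U := SchTorsor.genericPoint_mem U heU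
  have : Nonempty U := ⟨⟨_, hη⟩⟩
  haveI := (S9821.result X).1 hX U hU
  haveI := functionField_isFractionRing_of_isAffineOpen X U hU
  have hrange : Set.range t ⊆ Set.range hV.fromSpec := by
    rintro _ ⟨z, rfl⟩
    rw [hV.range_fromSpec]
    exact (he z).mem_open V.isOpen heV
  obtain ⟨ψ, hψ⟩ := Spec.map_surjective (IsOpenImmersion.lift hV.fromSpec t hrange)
  have ht' : Spec.map ψ ≫ hV.fromSpec = t := by
    rw [hψ, IsOpenImmersion.lift_fac]
  let χ := g.appLE U V hVU
  have hgen : X.fromSpecStalk (genericPoint X) = Spec.map (X.presheaf.germ U (genericPoint X) hη) ≫ hU.fromSpec := by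
    rw [← hU.fromSpecStalk_eq_fromSpecStalk hη]
    rfl
  have hA : χ ≫ ψ = X.presheaf.germ U (genericPoint X) hη := by
    apply Spec.map_injective
    rw [← cancel_mono hU.fromSpec, ← hgen, ← ht, ← ht', Category.assoc, Spec.map_comp, Category.assoc,
      IsAffineOpen.SpecMap_appLE_fromSpec g hU hV hVU]
  letI : Algebra Γ(X, U) Γ(Y, V) := χ.hom.toAlgebra
  have : Algebra.FormallyUnramified Γ(X, U) Γ(Y, V) :=
    HasRingHomProperty.appLE @FormallyUnramified g inferInstance ⟨U, hU⟩ ⟨V, hV⟩ hVU
  have : Algebra.FiniteType Γ(X, U) Γ(Y, V) := g.finiteType_appLE hU hV hVU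
  let ψ' : Γ(Y, V) →ₐ[Γ(X, U)] X.functionField :=
    { ψ.hom with commutes' := fun a => congr($(hA) a) }
  let q : ↥(Spec Γ(Y, V)) := hV.primeIdealOf ⟨e, heV⟩
  have hq : RingHom.ker ψ' ≤ q.asIdeal := by
    let z : ↥(Spec X.functionField) := IsLocalRing.closedPoint X.functionField
    let p := Spec.map ψ z
    have hp : p ⤳ q := by
      refine hV.fromSpec.isOpenEmbedding.isInducing.specializes_iff.1 ?_
      have h1 : hV.fromSpec p = t z := by rw [← Scheme.Hom.comp_apply, ht']
      rw [h1, hV.fromSpec_primeIdealOf]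
      exact he z
    refine le_trans (fun a ha => ?_) ((PrimeSpectrum.le_iff_specializes p q).2 hp)
    show ψ.hom a ∈ (IsLocalRing.closedPoint X.functionField).asIdeal
    rw [show ψ.hom a = 0 from ha]
    exact zero_mem _
  obtain ⟨r, hr, φ, l, hl⟩ := exists_algHom_away ψ' q.asIdeal hq
  let a := CommRingCat.ofHom (algebraMap Γ(X, U) (Localization.Away r))
  have hj : IsOpenImmersion (Spec.map a) := IsOpenImmersion.of_isLocalization r
  refine ⟨Spec (CommRingCat.of (Localization.Away r)), Spec.map a ≫ hU.fromSpec, inferInstance, ?_,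
    Spec.map (CommRingCat.ofHom φ.toRingHom) ≫ hV.fromSpec, ?_, fun z hz => ?_⟩
  · have h1 : Spec.map χ q ∈ Set.range (Spec.map a) := by
      erw [PrimeSpectrum.localization_away_comap_range (Localization.Away r) r]
      exact hr
    obtain ⟨w, hw⟩ := h1
    refine ⟨w, ?_⟩
    rw [Scheme.Hom.comp_apply, hw, ← Scheme.Hom.comp_apply, IsAffineOpen.SpecMap_appLE_fromSpec g hU hV hVU,
      Scheme.Hom.comp_apply, hV.fromSpec_primeIdealOf]
  · rw [Category.assoc, ← IsAffineOpen.SpecMap_appLE_fromSpec g hU hV hVU, ← Spec.map_comp_assoc]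
    congr 2
    ext x
    exact φ.commutes x
  · have hz' : z = Spec.map (CommRingCat.ofHom l.toRingHom) := by
      rw [← cancel_mono (Spec.map a ≫ hU.fromSpec), hz, hgen, ← Spec.map_comp_assoc]
      congr 2
      ext x
      exact (l.commutes x).symm
    rw [hz', ← ht', ← Spec.map_comp_assoc]
    congr 2
    ext x
    exact AlgHom.congr_fun hl x

/-- A rational section of a separated unramified morphism satisfying the existence part of the valuative
criterion extends, the base being normal and integral. -/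
theorem exists_section_integral (hX : Pi1.IsNormalScheme X) (g : Y ⟶ X) [FormallyUnramified g]
    [LocallyOfFiniteType g] [IsSeparated g] (hfp : ValuativeCriterion.Existence g)
    (t : Spec X.functionField ⟶ Y) (ht : t ≫ g = X.fromSpecStalk (genericPoint X)) :
    ∃ σ : X ⟶ Y, σ ≫ g = 𝟙 X ∧ X.fromSpecStalk (genericPoint X) ≫ σ = t := by
  let z₀ : ↥(Spec X.functionField) := IsLocalRing.closedPoint X.functionField
  have hz₀ : ∀ x : X, g (t z₀) ⤳ x := fun x => by
    have h1 : g (t z₀) ∈ Set.range (X.fromSpecStalk (genericPoint X)) :=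
      ⟨z₀, by rw [← Scheme.Hom.comp_apply, ht]⟩
    rw [Scheme.range_fromSpecStalk] at h1
    exact h1.trans (genericPoint_specializes x)
  choose e hspec hge using fun x => ValuativeCriterion.Existence.specializingMap g hfp (hz₀ x)
  have hspec' : ∀ x z, t z ⤳ e x := fun x z => by
    rw [show z = z₀ from Subsingleton.elim (α := PrimeSpectrum X.functionField) _ _]
    exact hspec x
  choose W j hj hmem σ hσ hσt using fun x => exists_lift_nhd hX g t ht (e x) (hspec' x)
  have hmem' : ∀ x, x ∈ Set.range (j x) := fun x => by simpa [hge] using hmem x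
  let 𝒰 : X.OpenCover :=
    { I₀ := X
      X := W
      f := j
      mem₀ := by
        rw [Scheme.ofArrows_mem_precoverage_iff]
        exact ⟨fun x => ⟨x, hmem' x⟩, hj⟩ }
  have hcompat : ∀ x y : X, pullback.fst (𝒰.f x) (𝒰.f y) ≫ σ x = pullback.snd (𝒰.f x) (𝒰.f y) ≫ σ y := by
    intro x y
    have := hj x
    have := hj y
    refine SchTorsor.hom_ext_generic (pullback.fst (j x) (j y) ≫ j x) g ?_ ?_ fun z hz => ?_
    · rw [Category.assoc, hσ]
    · rw [Category.assoc, hσ, pullback.condition]
    · rw [← Category.assoc, ← Category.assoc, hσt x _ (by rw [Category.assoc]; exact hz),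
        hσt y _ (by rw [Category.assoc, ← pullback.condition]; exact hz)]
  refine ⟨𝒰.glueMorphisms σ hcompat, ?_, ?_⟩
  · refine 𝒰.hom_ext _ _ fun x => ?_
    rw [Scheme.Cover.ι_glueMorphisms_assoc, Category.comp_id]
    exact hσ x
  · let x := genericPoint X
    have := hj x
    have hsub : Set.range (X.fromSpecStalk x) ⊆ Set.range (j x) := by
      rintro _ ⟨z, rfl⟩
      have hz : X.fromSpecStalk x z ⤳ x := by
        have : X.fromSpecStalk x z ∈ Set.range (X.fromSpecStalk x) := ⟨z, rfl⟩
        rwa [Scheme.range_fromSpecStalk] at this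
      exact hz.mem_open (j x).opensRange.isOpen (hmem' x)
    have h1 : j x ≫ 𝒰.glueMorphisms σ hcompat = σ x := Scheme.Cover.ι_glueMorphisms 𝒰 σ hcompat x
    rw [← IsOpenImmersion.lift_fac (j x) _ hsub, Category.assoc, h1]
    exact hσt x _ (IsOpenImmersion.lift_fac _ _ _)

omit [AlgebraicGeometry.IsIntegral X]

/-- Over a locally Noetherian normal base, rational sections are defined everywhere. -/
theorem exists_section {Z S : Scheme.{u}} (f : Z ⟶ S)
    [IsLocallyNoetherian S] (hS : Pi1.IsNormalScheme S) [IsSeparated f] [FormallyUnramified f]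
    [LocallyOfFiniteType f] (hfp : ValuativeCriterion.Existence f) (U : S.Opens) (hU : Dense (U : Set S))
    (v : ↑U ⟶ Z) (hv : v ≫ f = U.ι) : ∃ w : S ⟶ Z, w ≫ f = 𝟙 S ∧ U.ι ≫ w = v := by
  haveI : IsReduced S := HTopAwn.isReduced_of_isNormal hS
  choose W hxW hW using fun s : S => haveI := (hS s).1; H23.FinCondSch.exists_integral_nhd s
  have key : ∀ s : S, ∃ σ : (W s).toScheme ⟶ Z, σ ≫ f = (W s).ι ∧
      S.homOfLE (inf_le_left : W s ⊓ U ≤ W s) ≫ σ = S.homOfLE inf_le_right ≫ v := by
    intro s
    haveI := hW s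
    let X := (W s).toScheme
    have hX : Pi1.IsNormalScheme X := fun x => by
      let e := ((W s).stalkIso x).commRingCatIsoToRingEquiv
      haveI : IsDomain (S.presheaf.stalk x.1) := (hS x.1).1
      haveI : IsIntegrallyClosed (S.presheaf.stalk x.1) := (hS x.1).2
      exact ⟨e.toMulEquiv.isDomain _, IsIntegrallyClosed.of_equiv e.symm⟩
    haveI : Nonempty X := ⟨⟨s, hxW s⟩⟩
    obtain ⟨y, hyW, hyU⟩ := hU.inter_open_nonempty _ (W s).isOpen ⟨s, hxW s⟩
    let U' : X.Opens := (W s).ι ⁻¹ᵁ U
    have hη : genericPoint X ∈ U' :=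
      SchTorsor.genericPoint_mem U' (x := (⟨y, hyW⟩ : X)) hyU
    have hrange : Set.range (X.fromSpecStalk (genericPoint X) ≫ (W s).ι) ⊆ Set.range U.ι := by
      rintro _ ⟨z, rfl⟩
      have h1 : X.fromSpecStalk (genericPoint X) z ∈ Set.range (X.fromSpecStalk (genericPoint X)) := ⟨z, rfl⟩
      rw [Scheme.range_fromSpecStalk] at h1
      rw [Scheme.Opens.range_ι, Scheme.Hom.comp_apply]
      exact h1.mem_open U'.isOpen hη
    let t₀ := IsOpenImmersion.lift U.ι _ hrange
    have ht₀ : t₀ ≫ U.ι = X.fromSpecStalk (genericPoint X) ≫ (W s).ι := IsOpenImmersion.lift_fac _ _ _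
    let g := pullback.snd f (W s).ι
    have hg : ValuativeCriterion.Existence g :=
      MorphismProperty.pullback_snd (P := ValuativeCriterion.Existence) f (W s).ι hfp
    haveI : IsSeparated g := inferInstance
    haveI : FormallyUnramified g :=
      MorphismProperty.of_isPullback (P := @FormallyUnramified) (IsPullback.of_hasPullback f (W s).ι) ‹_›
    let t : Spec X.functionField ⟶ pullback f (W s).ι :=
      pullback.lift (t₀ ≫ v) (X.fromSpecStalk (genericPoint X)) (by rw [Category.assoc, hv, ht₀])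
    obtain ⟨σ, hσ, hσt⟩ := exists_section_integral hX g hg t (pullback.lift_snd _ _ _)
    refine ⟨σ ≫ pullback.fst f (W s).ι, by rw [Category.assoc, pullback.condition, reassoc_of% hσ], ?_⟩
    let P := (W s ⊓ U).toScheme
    let j : P ⟶ X := S.homOfLE inf_le_left
    let b : P ⟶ pullback f (W s).ι := pullback.lift (S.homOfLE inf_le_right ≫ v) j
      (by rw [Category.assoc, hv, Scheme.homOfLE_ι, Scheme.homOfLE_ι])
    have hb : j ≫ σ = b := by
      refine SchTorsor.hom_ext_generic j g (by rw [Category.assoc, hσ, Category.comp_id])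
        (pullback.lift_snd _ _ _) fun z hz => ?_
      rw [reassoc_of% hz, hσt]
      refine pullback.hom_ext ?_ ?_
      · rw [Category.assoc, pullback.lift_fst, pullback.lift_fst]
        rw [← Category.assoc z]
        congr 1
        rw [← cancel_mono U.ι, ht₀, Category.assoc, Scheme.homOfLE_ι, ← hz, Category.assoc, Scheme.homOfLE_ι]
      · rw [Category.assoc, pullback.lift_snd, pullback.lift_snd, hz]
    show j ≫ σ ≫ pullback.fst _ _ = _
    rw [reassoc_of% hb, pullback.lift_fst]
  choose σ hσ hσv using key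
  let 𝒰 : S.OpenCover := S.openCoverOfIsOpenCover W
    (TopologicalSpace.IsOpenCover.mk (eq_top_iff.2 fun x _ => TopologicalSpace.Opens.mem_iSup.2 ⟨x, hxW x⟩))
  haveI : IsDominant U.ι := ⟨by rw [DenseRange, Scheme.Opens.range_ι]; exact hU⟩
  have hcompat : ∀ a b : S, pullback.fst (W a).ι (W b).ι ≫ σ a = pullback.snd (W a).ι (W b).ι ≫ σ b := by
    intro a b
    let P := pullback (W a).ι (W b).ι
    haveI : IsReduced P := isReduced_of_isOpenImmersion (pullback.fst (W a).ι (W b).ι ≫ (W a).ι)
    let p : P ⟶ S := pullback.fst (W a).ι (W b).ι ≫ (W a).ι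
    let k := pullback.fst p U.ι
    haveI : IsDominant k := ⟨by
      rw [DenseRange, IsOpenImmersion.range_pullbackFst, Scheme.Opens.opensRange_ι]
      exact hU.preimage p.isOpenEmbedding.isOpenMap⟩
    refine ext_of_isDominant_of_isSeparated f ?_ k ?_
    · rw [Category.assoc, Category.assoc, hσ, hσ, pullback.condition]
    · have hr₁ : Set.range (k ≫ pullback.fst (W a).ι (W b).ι ≫ (W a).ι) ⊆ Set.range (W a ⊓ U).ι := by
        rintro _ ⟨z, rfl⟩
        rw [Scheme.Opens.range_ι]
        refine ⟨?_, ?_⟩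
        · show ((k ≫ pullback.fst _ _) ≫ (W a).ι) z ∈ W a
          rw [Scheme.Hom.comp_apply]
          exact Subtype.property _
        · show (k ≫ p) z ∈ U
          rw [pullback.condition, Scheme.Hom.comp_apply]
          exact Subtype.property _
      have hr₂ : Set.range (k ≫ pullback.snd (W a).ι (W b).ι ≫ (W b).ι) ⊆ Set.range (W b ⊓ U).ι := by
        rintro _ ⟨z, rfl⟩
        rw [Scheme.Opens.range_ι]
        refine ⟨?_, ?_⟩
        · show ((k ≫ pullback.snd _ _) ≫ (W b).ι) z ∈ W b
          rw [Scheme.Hom.comp_apply]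
          exact Subtype.property _
        · show (k ≫ pullback.snd (W a).ι (W b).ι ≫ (W b).ι) z ∈ U
          rw [← pullback.condition]
          show (k ≫ p) z ∈ U
          rw [pullback.condition, Scheme.Hom.comp_apply]
          exact Subtype.property _
      have e₁ : k ≫ pullback.fst (W a).ι (W b).ι =
          IsOpenImmersion.lift _ _ hr₁ ≫ S.homOfLE (inf_le_left : W a ⊓ U ≤ W a) := by
        rw [← cancel_mono (W a).ι, Category.assoc, Category.assoc, Scheme.homOfLE_ι, IsOpenImmersion.lift_fac]
      have e₂ : k ≫ pullback.snd (W a).ι (W b).ι =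
          IsOpenImmersion.lift _ _ hr₂ ≫ S.homOfLE (inf_le_left : W b ⊓ U ≤ W b) := by
        rw [← cancel_mono (W b).ι, Category.assoc, Category.assoc, Scheme.homOfLE_ι, IsOpenImmersion.lift_fac]
      rw [reassoc_of% e₁, reassoc_of% e₂, hσv, hσv]
      refine (Category.assoc _ _ _).symm.trans (Eq.trans ?_ (Category.assoc _ _ _))
      congr 1
      rw [← cancel_mono U.ι, Category.assoc, Category.assoc, Scheme.homOfLE_ι, Scheme.homOfLE_ι,
        IsOpenImmersion.lift_fac, IsOpenImmersion.lift_fac]
      exact congrArg (k ≫ ·) pullback.condition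
  refine ⟨𝒰.glueMorphisms σ hcompat, 𝒰.hom_ext _ _ fun a => ?_, ?_⟩
  · have h1 : (W a).ι ≫ 𝒰.glueMorphisms σ hcompat = σ a := Scheme.Cover.ι_glueMorphisms 𝒰 σ hcompat a
    show (W a).ι ≫ _ ≫ f = (W a).ι ≫ 𝟙 S
    rw [reassoc_of% h1, Category.comp_id]
    exact hσ a
  · refine Scheme.Cover.hom_ext (𝒰.pullback₁ U.ι) _ _ fun (a : S) => ?_
    show pullback.fst U.ι (W a).ι ≫ U.ι ≫ _ = pullback.fst U.ι (W a).ι ≫ v
    rw [pullback.condition_assoc]
    have h1 : (W a).ι ≫ 𝒰.glueMorphisms σ hcompat = σ a := Scheme.Cover.ι_glueMorphisms 𝒰 σ hcompat a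
    rw [h1]
    have hr : Set.range (pullback.snd U.ι (W a).ι ≫ (W a).ι) ⊆ Set.range (W a ⊓ U).ι := by
      rintro _ ⟨z, rfl⟩
      rw [Scheme.Opens.range_ι]
      refine ⟨?_, ?_⟩
      · rw [Scheme.Hom.comp_apply]; exact Subtype.property _
      · rw [← pullback.condition, Scheme.Hom.comp_apply]; exact Subtype.property _
    have e₁ : pullback.snd U.ι (W a).ι = IsOpenImmersion.lift _ _ hr ≫ S.homOfLE (inf_le_left : W a ⊓ U ≤ W a) := by
      rw [← cancel_mono (W a).ι, Category.assoc, Scheme.homOfLE_ι, IsOpenImmersion.lift_fac]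
    rw [e₁, Category.assoc, hσv, ← Category.assoc]
    congr 1
    rw [← cancel_mono U.ι, Category.assoc, Scheme.homOfLE_ι, IsOpenImmersion.lift_fac, pullback.condition]

end Groth.Agent.AbSchX.UnramNormal
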